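import Cfsg.Agent.H511.Ore.WRow_m3
import Cfsg.Agent.H651.Two.Row
import Cfsg.Agent.H854.Ore.J4Cent
import Cfsg.Agent.H854.Ore.J4Two_m3
import Cfsg.Agent.H856.F23.Deg_m3
import Cfsg.Agent.H692.Ore.Fi23C
import Cfsg.Agent.H854.Ore.Fi24Two_m3
import Cfsg.Agent.H839.ElevenMain
import Cfsg.Agent.H838.PCoreAbs_m3
import Cfsg.Agent.LThreeFi23.CentUuComp
import Cfsg.Agent.KFacts.FiTTh.Has
import Cfsg.Agent.H146.OreOdd
import Cfsg.Agent.LieClassical.OmegaReindex
import Cfsg.Agent.H134.Sq.Base_m3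
import Cfsg.Agent.S2447
import Cfsg.Agent.H199.NSmFi23
import Cfsg.Agent.H870.IMFiTwentyThree
import Cfsg.Agent.H839.SeventeenMain_m3
import Cfsg.Agent.Lib.PermNetFast
import Cfsg.Agent.H759.Ore.Fi22Cent
import Cfsg.Agent.H830.Parts
import Cfsg.Agent.Fischer.Fi23Simple
import Cfsg.Agent.Fischer.Fi22Order
import Cfsg.Agent.J4.ClassesAbs
import Cfsg.Agent.FastGrp
import Cfsg.Agent.Prune
set_option linter.all false

section
prune_inst 0x7fbcfffba9b89fffdfff7e7ffefddffdf8984fffe6dff9cbffe063ff2bdf23088be5fb878fe010fc0e76e2b410b87853f97eceffeb6bdc7ffffd5ff45ffbee4ff5f7bd0851d6983e0f3c0fff63f0778e7f3fffffffffffffffffffffffffffaeffffffffffff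

-- part: H854/Ore/J4
section
set_option linter.all false
open scoped Cfsg.Agent.FastGrp

/-!
# The Ore conjecture (S2443) for `J4` (helper854)
-/

set_option autoImplicit false

open Cfsg Subgroup

namespace Cfsg.Agent.H854.Ore

open Cfsg.Agent.H511.Ore Cfsg.Agent.H651.Two Cfsg.Agent.H653.Sieve Cfsg.Agent.H777.Ore
open Cfsg.Agent.H854.JM Cfsg.Agent.H854.JM.NonLocal
open Cfsg.Agent.OrdDiv Cfsg.Agent.H866 Cfsg.Agent.H866.J4Ord

/-- the group `Spor.J4` -/
local notation "𝒢" => Cfsg.Spor.J4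

/-- the columns of the primes dividing the order once -/
def cdJ : List CD :=
  [⟨29, 1, 28, 1, [(0, 0), (1, 1), (28, -1)], 0, false⟩,
    ⟨43, 1, 14, 3, [(0, 0), (1, 3), (14, -1), (29, 1), (42, -3)], 3, true⟩,
    ⟨23, 1, 22, 1, [(0, 0), (1, 1), (22, -1)], 0, false⟩,
    ⟨37, 1, 12, 3, [(0, 0), (1, 3), (12, -1), (25, 1), (36, -3)], 3, true⟩,
    ⟨31, 1, 10, 3, [(0, 0), (1, 3), (10, -1), (21, 1), (30, -3)], 3, true⟩]

/-- the factors of the order -/
def LJ : List (ℕ × ℕ) := [(43, 1), (37, 1), (31, 1), (29, 1), (23, 1), (11, 3), (7, 1), (5, 1), (3, 3), (2, 21)]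

theorem card'' : Nat.card 𝒢 = 86775571046077562880 := H858.FixJ4.facts.2.1

theorem hasJ : ∀ d ∈ cdJ, d.Has 𝒢 := by
  have hfin : Finite 𝒢 := H858.FixJ4.facts.1
  intro d hd
  simp only [cdJ, List.mem_cons, List.not_mem_nil, or_false] at hd
  rcases hd with rfl | rfl | rfl | rfl | rfl
  · exact has_of_sub (by norm_num) (by rw [card'']; norm_num) fun R hR => (H859.BigNum.data29' hR).1
  · exact has_of_sub (by norm_num) (by rw [card'']; norm_num) fun R hR => (H859.BigNum.data43 hR).1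
  · exact has_of_sub (by norm_num) (by rw [card'']; norm_num) fun R hR => (H859.BigNum.data23 hR).1
  · exact has_of_sub (by norm_num) (by rw [card'']; norm_num) fun R hR => (H859.BigNum.data37 hR).1
  · exact has_of_sub (by norm_num) (by rw [card'']; norm_num) fun R hR => (H859.BigNum.data31 hR).1

theorem hL : (LJ.all fun pa => Nat.Prime pa.1) = true := by simp [LJ]; norm_num
theorem hLN : facProd LJ = 86775571046077562880 := by decide +kernel
theorem hcd : (cdJ.all (CD.ok 86775571046077562880)) = true := by decide +kernel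
theorem hdiv : allDiv (100000 * 100000) (tst 43 2 [] cdJ) LJ 1 = true := by decide +kernel

theorem two_pow_of (g : 𝒢) (hg : ∀ p : ℕ, p.Prime → p ≠ 2 → ¬ p ∣ orderOf g) : ∃ n, orderOf g = 2 ^ n := by
  have hfin : Finite 𝒢 := H858.FixJ4.facts.1
  refine ⟨(orderOf g).primeFactorsList.length, Nat.eq_prime_pow_of_unique_prime_dvd (orderOf_pos g).ne' ?_⟩
  intro d hd hdd
  by_contra h
  exact hg d hd h hdd

/-- **the Ore conjecture for `J4`** -/
theorem ore_J4 {S : Type*} [Group S] (h : Spor.IsoJ4 S) : AllC S := by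
  obtain ⟨e⟩ := h
  refine AllC.congr (G := 𝒢) e.symm fun g => ?_
  by_cases hg : ∃ p : ℕ, p.Prime ∧ p ≠ 2 ∧ p ∣ orderOf g
  · obtain ⟨p, hp, h2, hd⟩ := hg
    have := simple_J
    have hfin : Finite 𝒢 := H858.FixJ4.facts.1
    exact isC_of_data noncomm_J 86775571046077562880 card'' LJ hL hLN cdJ hcd hasJ (m := 2) (D := 100000) (ex := [])
      (fun χ h => H511.Ore.two_le_charDegree noncomm_J χ h) (fun χ => List.not_mem_nil)
      ⟨43, 1, 14, 3, [(0, 0), (1, 3), (14, -1), (29, 1), (42, -3)], 3, true⟩ (by simp [cdJ]) rfl hdiv 2661120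
      (by norm_num [H511.Ore.s4]) (cent_le hp h2 hd)
  · push Not at hg
    obtain ⟨n, hn⟩ := two_pow_of g hg
    exact two_comm (n := n) (by rw [← hn]; exact pow_orderOf_eq_one g)

end Cfsg.Agent.H854.Ore

private theorem dce_3d9fcb22592f : _root_.True := by
  try have : _root_.True := by simp only [_root_.Cfsg.Agent.H854.Ore.LJ.eq_1]
  try have : _root_.True := by simp only [_root_.Cfsg.Agent.H854.Ore.cdJ.eq_1]
  try have : _root_.True := by simp only [_root_.Cfsg.Agent.H511.Ore.s4.eq_1]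
  exact _root_.True.intro
end

-- part: H822/Ore/Fi23Frame_mg
section
prune_inst 0x40000000000000000020000020300000000000000000000000480040000008000800000080000000400300008100000000000000000000000011900800000000010000108020000800000000000000000000000000000000000000000000000000
set_option linter.all false
open scoped Cfsg.Agent.FastGrp

-- part: H822/Ore/Fi23Frame
section
/-!
# The abstract frame of the rows `Fi23` (helper822)

`frame` : a property of the elements of `Fi23` holds for all of them if it holds for the elements with small centralizer,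
the 2-elements and the elements of odd order (given the bounds `Bd` for one involution of each of the classes 2A, 2C).
-/

set_option autoImplicit false

namespace Cfsg.Agent.H822.Ore.Fi23Frame

open Cfsg Subgroup Cfsg.Agent.KFacts.FiTTh.BasDef
open Cfsg.Agent.KFacts.FiTTh.BasFi (e)
open Cfsg.Agent.H511.Ore Cfsg.Agent.H777.Ore Cfsg.Agent.H822.Ore.Fi23Row
open Cfsg.Agent.Fischer.Fi23Z (z0)
open Cfsg.Spor (Fi23)

/-- the bounds for all involutions from the classes 2A and 2C -/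
theorem bd_of (hA : Bd z0) {r r' r'' : ZMod 23} (h1 : r ≠ r') (h2 : r ≠ r'') (h3 : r' ≠ r'')
    (hC : Bd (e (some r) * e (some r') * e (some r''))) {z : Fi23} (hz : z * z = 1) (hz1 : z ≠ 1) : Bd z := by
  have h01 : (0 : ZMod 23) ≠ 1 := by decide
  refine Bd.all (p := some 0) (q := some 0) (q' := some 1) (r := some r) (r' := some r') (r'' := some r'')
    (by simp) (by simp) (by simp) (by simp only [_root_.ne_eq, _root_.Option.some.injEq, _root_.zero_ne_one, _root_.not_false_eq_true]) (by simp) (by simp) (by simp) (by simpa using h1) (by simpa using h2)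
    (by simpa using h3) ?_ ?_ hC hz hz1
  · obtain ⟨g, -, hg⟩ := Cfsg.Agent.KFacts.FiTTh.BasFi.exists_e 0
    exact hA.of_isConj (isConj_iff.2 ⟨g, hg⟩)
  · intro s hs hc
    exact Cfsg.Agent.H692.Ore.Fi23B.two_b hA (Cfsg.Agent.H692.Ore.Fi23B.isConj_W2 h01) hs hc

/-- **the abstract frame** -/
theorem frame {Q : Fi23 → Prop} (hB : ∀ z : Fi23, z * z = 1 → z ≠ 1 → Bd z)
    (h5 : ∀ p : ℕ, p.Prime → 5 ≤ p → ∀ s : Fi23, orderOf s = p → Nat.card (centralizer ({s} : Set Fi23)) ≤ 39191040)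
    (t1 : ∀ g : Fi23, Nat.card (centralizer ({g} : Set Fi23)) ≤ 39191040 → Q g)
    (h2 : ∀ (g : Fi23) (n : ℕ), g ^ 2 ^ n = 1 → Q g) (hodd : ∀ g : Fi23, Odd (orderOf g) → Q g) : ∀ g : Fi23, Q g := by
  have := Cfsg.Agent.KFacts.FiTTh.BasInv.finite
  intro g
  have hg0 : orderOf g ≠ 0 := (orderOf_pos g).ne'
  have hpow : ∀ d, d ∣ orderOf g → d ≠ 0 → orderOf (g ^ (orderOf g / d)) = d := by
    intro d hd hd0
    obtain ⟨k, hk⟩ := hd
    have hk0 : k ≠ 0 := by rintro rfl; exact hg0 (by rw [hk, mul_zero])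
    rw [hk, Nat.mul_div_cancel_left _ (Nat.pos_of_ne_zero hd0), orderOf_pow_of_dvd hk0 ⟨d, by rw [hk, mul_comm]⟩, hk,
      Nat.mul_div_cancel _ (Nat.pos_of_ne_zero hk0)]
  by_cases hp : ∃ p : ℕ, p.Prime ∧ 5 ≤ p ∧ p ∣ orderOf g
  · obtain ⟨p, hp, hp5, hd⟩ := hp
    exact t1 g ((cent_pow_le _ rfl).trans (h5 p hp hp5 _ (hpow p hd hp.ne_zero)))
  have hpr : ∀ p : ℕ, p.Prime → p ∣ orderOf g → p = 2 ∨ p = 3 := by
    intro p hpp hd
    by_contra h
    push Not at h
    have h2 := hpp.two_le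
    have h4 : p ≠ 4 := by rintro rfl; revert hpp; norm_num
    exact hp ⟨p, hpp, by omega, hd⟩
  by_cases h2d : 2 ∣ orderOf g
  swap
  · exact hodd g (Nat.not_even_iff_odd.1 fun h => h2d h.two_dvd)
  by_cases h3d : 3 ∣ orderOf g
  swap
  · have h6 : ∃ n, orderOf g = 2 ^ n := by
      refine ⟨_, Nat.eq_prime_pow_of_unique_prime_dvd hg0 ?_⟩
      intro d hd hdd
      rcases hpr d hd hdd with rfl | rfl
      · rfl
      · exact absurd hdd h3d
    obtain ⟨n, hn⟩ := h6
    exact h2 g n (by rw [← hn]; exact pow_orderOf_eq_one g)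
  have hz := hpow 2 h2d (by norm_num)
  have hs := hpow 3 h3d (by norm_num)
  set z := g ^ (orderOf g / 2) with hzd
  set s := g ^ (orderOf g / 3) with hsd
  have hz2 : z * z = 1 := by rw [← pow_two, ← hz]; exact pow_orderOf_eq_one z
  have hz1 : z ≠ 1 := by intro h; rw [h, orderOf_one] at hz; omega
  have hcomm : s * z = z * s := by rw [hzd, hsd, ← pow_add, ← pow_add, add_comm]
  refine t1 g (le_trans (card_le_of_le fun y hy => ?_) (hB z hz2 hz1 s hs hcomm))
  rw [mem_centralizer_singleton_iff] at hy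
  have h1 : Commute y g := hy
  exact mem_cent_pair.2 ⟨h1.pow_right _, h1.pow_right _⟩

end Cfsg.Agent.H822.Ore.Fi23Frame
end

-- part: H822/Ore/Fi23Four
section
/-!
# The 2-elements of `Fi23`: products of two elements of order 23, and of four elements of square one (helper822)

* `two_prd` : every 2-element is `x y` with `x ^ 23 = y ^ 23 = 1` and `y` conjugate to `x⁻¹`;
* `two_eleven` : every 2-element is `x y` with `x ^ 11 = y ^ 11 = 1`, or has square one;
* `two_four` : every 2-element is a product of four elements of square one.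
-/

set_option autoImplicit false
set_option linter.unusedSectionVars false

namespace Cfsg.Agent.H822.Ore.Fi23Four

open Cfsg Subgroup Cfsg.Agent.SporadicStructure.M24El Cfsg.Agent.SporadicA.GolayPerm Cfsg.Agent.SporadicA.GolayBase
open Cfsg.Agent.H860.Two24Data Cfsg.Agent.H860.Two24
open Cfsg.Agent.KFacts.FiTTh.BasDef Cfsg.Agent.H822.Ore.Fi23Two
open Cfsg.Agent.H854.Ore (ppw el_ppw I2 I2.of_sylow)
open Cfsg.Agent.H777.Ore

/-! ### The elements of order 11 of `M23` -/

/-- elements of order 11 -/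
def E1 : List ℕ := [984818244535754528103549039458486304, 984640170152552721077974325743195437,
  984240771071116135414040344352133579, 955475425785408913600821800140508740]

/-- elements of order 11 -/
def E2 : List ℕ := [984818244535754528103549039458486304, 977792364262558658741481613680450151,
  967398705707390651391904726823441763, 955845364094396747346385524413126835]

/-- the exponents -/
def Ek : List ℕ := [0, 3, 2, 2]

/-- the element of order 23 in the group generated by the pair -/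
def W (j : ℕ) : ℕ := pcomp (E1.getD j idP) (ppw (E2.getD j idP) (Ek.getD j 0))

theorem E1_ok : ∀ P ∈ E1, ok P = true := by decide +kernel

theorem E2_ok : ∀ P ∈ E2, ok P = true := by decide +kernel

theorem E1_none : ∀ j < 4, papp (E1.getD j idP) 23 = 23 := by decide +kernel

theorem E2_none : ∀ j < 4, papp (E2.getD j idP) 23 = 23 := by decide +kernel

theorem W_none : ∀ j < 4, papp (W j) 23 = 23 := by decide +kernel

theorem E_mul : ∀ j < 4, Nat.beq (pcomp (E1.getD j idP) (E2.getD j idP)) (Rs.getD j idP) = true := by decide +kernel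

theorem E1_pow : ∀ j < 4, Nat.beq (ppw (E1.getD j idP) 11) idP = true := by decide +kernel

theorem E2_pow : ∀ j < 4, Nat.beq (ppw (E2.getD j idP) 11) idP = true := by decide +kernel

theorem W_chk : ∀ j < 4, 0 < j → ∀ i < 23,
    ([i, papp (W j) i, papp (W j) (papp (W j) i), papp (W j) (papp (W j) (papp (W j) i))] : List ℕ).Nodup := by
  decide +kernel

theorem aP_pow : Nat.beq (ppw aP 23) idP = true := by decide +kernel

theorem W_ok (j : ℕ) : ok (W j) = true := ok_pcomp (ok_getD E1_ok j) (el_ppw (ok_getD E2_ok j) _).1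

theorem el_W (j : ℕ) : el (W j) = el (E1.getD j idP) * el (E2.getD j idP) ^ (Ek.getD j 0) := by
  unfold W
  rw [el_pcomp (ok_getD E1_ok j) (el_ppw (ok_getD E2_ok j) _).1, (el_ppw (ok_getD E2_ok j) _).2]

theorem nodup_of {P : ℕ} (hP : ok P = true) (hc : ∀ i < 23,
    ([i, papp P i, papp P (papp P i), papp P (papp P (papp P i))] : List ℕ).Nodup) (p : GolayPt) (hp : p ≠ none) :
    ([p, (el P : Equiv.Perm GolayPt) p, (el P : Equiv.Perm GolayPt) ((el P : Equiv.Perm GolayPt) p),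
    (el P : Equiv.Perm GolayPt) ((el P : Equiv.Perm GolayPt) ((el P : Equiv.Perm GolayPt) p))] : List GolayPt).Nodup := by
  have h1 : ∀ q : GolayPt, idx ((el P : Equiv.Perm GolayPt) q) = papp P (idx q) := fun q => idx_el_smul hP q
  have h2 : idx p < 23 := by
    have h3 : ∀ q : GolayPt, q ≠ none → idx q < 23 := by decide +kernel
    exact h3 p hp
  have h4 := hc (idx p) h2
  apply List.Nodup.of_map idx
  simp only [List.map_cons, List.map_nil, h1]
  exact h4

theorem pow_mk {P : ℕ} (hP : ok P = true) (h : papp P 23 = 23) {m : ℕ} (hm : Nat.beq (ppw P m) idP = true) :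
    (⟨_, el_mem hP h⟩ : Spor.M23) ^ m = 1 := by
  have h1 := congrArg el (Nat.eq_of_beq_eq_true hm)
  rw [(el_ppw hP _).2, el_idP] at h1
  have h2 : ((el P : M24) : Equiv.Perm GolayPt) ^ m = 1 := congrArg Subtype.val h1
  exact Subtype.ext h2

section

variable {K : Type*} [Group K] {e : GolayPt → K} (B : Base e)

include B

theorem nconj (n : ↥(normalizer (A e : Set K))) {x : K} (hx : x ∈ A e) : (n : K) * x * (n : K)⁻¹ ∈ A e :=
  (mem_normalizer_iff.1 n.2 x).1 hx

/-- a lift of an element of odd order `m` -/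
theorem lift {a : Spor.M23} {m : ℕ} (hm : Odd m) (ha : a ^ m = 1) :
    ∃ a' : ↥(normalizer (A e : Set K)), B.ind a' = a ∧ (a' : K) ^ m = 1 := by
  obtain ⟨n, rfl⟩ := B.ind_surj a
  refine ⟨n ^ (m + 1), ?_, ?_⟩
  · rw [map_pow, pow_succ, ha, one_mul]
  · have h3 : B.ind (n ^ m) = 1 := by rw [map_pow, ha]
    have h4 : ((n ^ m : ↥(normalizer (A e : Set K))) : K) * (n ^ m : ↥(normalizer (A e : Set K))) = 1 := by
      exact B.sq_A ((B.ind_ker _).1 h3)
    have h5 : (n : K) ^ (2 * m) = 1 := by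
      rw [two_mul, pow_add]
      exact h4
    obtain ⟨r, hr⟩ := hm
    have h6 : (m + 1) * m = 2 * m * (r + 1) := by rw [hr]; ring
    rw [Subgroup.coe_pow, ← pow_mul, h6, pow_mul, h5, one_pow]

/-- the map `x ↦ [x, s]` is onto if `s` acts without fixed points -/
theorem fill [Finite K] {s : ↥(normalizer (A e : Set K))} (hfix : ∀ x ∈ A e, (s : K) * x * (s : K)⁻¹ = x → x = 1)
    {v : K} (hv : v ∈ A e) : ∃ x ∈ A e, x * (s * x⁻¹ * (s : K)⁻¹) = v := by
  have hm : ∀ x ∈ A e, x * (s * x⁻¹ * (s : K)⁻¹) ∈ A e := fun x hx => (A e).mul_mem hx (nconj B s ((A e).inv_mem hx))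
  let f : A e → A e := fun x => ⟨x * (s * (x : K)⁻¹ * (s : K)⁻¹), hm x x.2⟩
  have hinj : Function.Injective f := by
    intro x y hxy
    have h6 : (x : K) * (s * (x : K)⁻¹ * (s : K)⁻¹) = y * (s * (y : K)⁻¹ * (s : K)⁻¹) := congrArg Subtype.val hxy
    have h7 : (s : K) * ((x : K)⁻¹ * y) * (s : K)⁻¹ = (x : K)⁻¹ * y := by
      calc (s : K) * ((x : K)⁻¹ * y) * (s : K)⁻¹
          = (x : K)⁻¹ * (x * (s * (x : K)⁻¹ * (s : K)⁻¹)) * (s * y * (s : K)⁻¹) := by group
        _ = (x : K)⁻¹ * (y * (s * (y : K)⁻¹ * (s : K)⁻¹)) * (s * y * (s : K)⁻¹) := by rw [h6]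
        _ = (x : K)⁻¹ * y := by group
    have h8 := hfix _ ((A e).mul_mem ((A e).inv_mem x.2) y.2) h7
    exact Subtype.ext (inv_mul_eq_one.1 h8)
  obtain ⟨x, hx⟩ := Finite.surjective_of_injective hinj ⟨v, hv⟩
  exact ⟨x, x.2, congrArg Subtype.val hx⟩

/-- **the coset of `a b`** if a word `a b ^ k` acts without fixed points -/
theorem split [Finite K] {a b h : ↥(normalizer (A e : Set K))} {k : ℕ}
    (hfix : ∀ x ∈ A e, ((a * b ^ k : ↥(normalizer (A e : Set K))) : K) * x *
      ((a * b ^ k : ↥(normalizer (A e : Set K))) : K)⁻¹ = x → x = 1)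
    (hv : (h : K) * ((a * b : ↥(normalizer (A e : Set K))) : K)⁻¹ ∈ A e) :
    ∃ p q : K, (h : K) = (p * a * p⁻¹) * (q * b * q⁻¹) := by
  let F : ↥(normalizer (A e : Set K)) → A e →* A e := fun s =>
    { toFun := fun x => ⟨x * (s * (x : K)⁻¹ * (s : K)⁻¹), (A e).mul_mem x.2 (nconj B s ((A e).inv_mem x.2))⟩
      map_one' := Subtype.ext (by simp)
      map_mul' := fun x y => Subtype.ext (by
        show (x * y : K) * (s * (x * y : K)⁻¹ * (s : K)⁻¹) =
          x * (s * (x : K)⁻¹ * (s : K)⁻¹) * (y * (s * (y : K)⁻¹ * (s : K)⁻¹))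
        have e1 := B.comm' (nconj B s ((A e).inv_mem x.2)) y.2
        have e2 := B.comm' (nconj B s ((A e).inv_mem x.2)) (nconj B s ((A e).inv_mem y.2))
        calc (x * y : K) * (s * (x * y : K)⁻¹ * (s : K)⁻¹)
            = x * y * ((s * (y : K)⁻¹ * (s : K)⁻¹) * (s * (x : K)⁻¹ * (s : K)⁻¹)) := by group
          _ = x * y * ((s * (x : K)⁻¹ * (s : K)⁻¹) * (s * (y : K)⁻¹ * (s : K)⁻¹)) := by rw [← e2]
          _ = x * (y * (s * (x : K)⁻¹ * (s : K)⁻¹)) * (s * (y : K)⁻¹ * (s : K)⁻¹) := by group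
          _ = x * ((s * (x : K)⁻¹ * (s : K)⁻¹) * y) * (s * (y : K)⁻¹ * (s : K)⁻¹) := by rw [← e1]
          _ = _ := by group) }
  have hF : ∀ (s : ↥(normalizer (A e : Set K))) (x : A e), ((F s x : A e) : K) = x * (s * (x : K)⁻¹ * (s : K)⁻¹) :=
    fun _ _ => rfl
  let C : ↥(normalizer (A e : Set K)) → A e →* A e := fun s =>
    { toFun := fun x => ⟨s * x * (s : K)⁻¹, nconj B s x.2⟩
      map_one' := Subtype.ext (by simp)
      map_mul' := fun x y => Subtype.ext (by
        show (s : K) * (x * y) * (s : K)⁻¹ = s * x * (s : K)⁻¹ * (s * y * (s : K)⁻¹)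
        group) }
  have hCm : ∀ (s : ↥(normalizer (A e : Set K))) (x : A e), ((C s x : A e) : K) = s * x * (s : K)⁻¹ := fun _ _ => rfl
  have hAc : ∀ x y : A e, x * y = y * x := fun x y => Subtype.ext (B.comm' x.2 y.2)
  let B' : Subgroup (A e) := (F a).range ⊔ ((C a).comp (F b)).range
  have mulB : ∀ y ∈ B', ∃ p q : A e, y = F a p * C a (F b q) := by
    intro y hy
    have : ((F a).range).Normal := ⟨fun n hn g => by
      rw [hAc g n, mul_assoc, mul_inv_cancel, mul_one]; exact hn⟩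
    obtain ⟨_, ⟨p, rfl⟩, _, ⟨q, rfl⟩, rfl⟩ := Subgroup.mem_sup_of_normal_left.1 hy
    exact ⟨p, q, rfl⟩
  let T : ↥(normalizer (A e : Set K)) → Prop := fun s => ∀ x : A e, F s x ∈ B'
  have Tinv : ∀ {s : ↥(normalizer (A e : Set K))}, T s → ∀ b ∈ B', C s b ∈ B' := by
    intro s hs b hb
    have h1 : C s b = (F s b)⁻¹ * b := by
      apply Subtype.ext
      rw [Subgroup.coe_mul, Subgroup.coe_inv, hF, hCm]
      group
    rw [h1]
    exact B'.mul_mem (B'.inv_mem (hs b)) hb
  have Tmul : ∀ {s t : ↥(normalizer (A e : Set K))}, T s → T t → T (s * t) := by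
    intro s t hs ht x
    have h1 : F (s * t) x = F s x * C s (F t x) := by
      apply Subtype.ext
      rw [Subgroup.coe_mul, hF, hF, hCm, hF]
      push_cast
      group
    rw [h1]
    exact B'.mul_mem (hs x) (Tinv hs _ (ht x))
  have Tone : T 1 := fun x => by
    have : F 1 x = 1 := Subtype.ext (by rw [hF]; simp only [_root_.OneMemClass.coe_one, _root_.one_mul, _root_.inv_one, _root_.mul_one, _root_.mul_inv_cancel])
    rw [this]; exact B'.one_mem
  have Tpow : ∀ {s : ↥(normalizer (A e : Set K))} (m : ℕ), T s → T (s ^ m) := by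
    intro s m hs
    induction m with
    | zero => rw [pow_zero]; exact Tone
    | succ m ih => rw [pow_succ]; exact Tmul ih hs
  have Ta : T a := fun x => (le_sup_left : (F a).range ≤ B') ⟨x, rfl⟩
  have Tb : T b := by
    intro x
    have h1 : C a (F b x) ∈ B' := (le_sup_right : ((C a).comp (F b)).range ≤ B') ⟨x, rfl⟩
    have h2 : F b x = F a (F b x) * C a (F b x) := by
      apply Subtype.ext
      rw [Subgroup.coe_mul, hF a, hCm]
      group
    rw [h2]
    exact B'.mul_mem (Ta _) h1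
  have hwT : T (a * b ^ k) := Tmul Ta (Tpow k Tb)
  obtain ⟨x, hx, hxv⟩ := fill B hfix hv
  have hxB : (⟨_, hv⟩ : A e) ∈ B' := by
    have : (⟨_, hv⟩ : A e) = F (a * b ^ k) ⟨x, hx⟩ := Subtype.ext hxv.symm
    rw [this]; exact hwT _
  obtain ⟨p, q, hpq⟩ := mulB _ hxB
  have e1 : (h : K) * ((a * b : ↥(normalizer (A e : Set K))) : K)⁻¹ = (p * (a * (p : K)⁻¹ * (a : K)⁻¹)) *
      (a * (q * (b * (q : K)⁻¹ * (b : K)⁻¹)) * (a : K)⁻¹) := congrArg Subtype.val hpq
  refine ⟨p, q, ?_⟩
  calc (h : K) = (h : K) * ((a * b : ↥(normalizer (A e : Set K))) : K)⁻¹ * ((a * b : ↥(normalizer (A e : Set K))) : K) := by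
        group
    _ = (p * (a * (p : K)⁻¹ * (a : K)⁻¹)) * (a * (q * (b * (q : K)⁻¹ * (b : K)⁻¹)) * (a : K)⁻¹) *
        ((a * b : ↥(normalizer (A e : Set K))) : K) := by rw [e1]
    _ = _ := by push_cast; group

/-- a 2-element is conjugate into the normalizer, over one of the four representatives -/
theorem into [Finite K] (hodd : ¬ 2 ∣ (normalizer (A e : Set K)).index) {g : K} {n : ℕ} (hg : g ^ 2 ^ n = 1) :
    ∃ (h : ↥(normalizer (A e : Set K))) (c : K), g = c * h * c⁻¹ ∧ ∃ j < 4,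
      ((B.ind h : Spor.M23) : Equiv.Perm GolayPt) = (el (Rs.getD j idP) : Equiv.Perm GolayPt) := by
  have : Fact (Nat.Prime 2) := ⟨Nat.prime_two⟩
  obtain ⟨c, hc⟩ := Cfsg.Agent.H860.TwoElem.exists_conj_mem (normalizer (A e : Set K)) hodd g hg
  set! g1 : ↥(normalizer (A e : Set K)) := ⟨c⁻¹ * g * c, hc⟩ with hg1
  have h1 : g1 ^ 2 ^ n = 1 := by
    apply Subtype.ext
    have : (c⁻¹ * g * c) ^ 2 ^ n = c⁻¹ * g ^ 2 ^ n * c := by
      have := conj_pow (i := 2 ^ n) (a := c⁻¹) (b := g)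
      rwa [inv_inv] at this
    show (c⁻¹ * g * c) ^ 2 ^ n = 1
    rw [this, hg]; group
  have h2 : ((B.ind g1 : Spor.M23) : Equiv.Perm GolayPt) ^ 2 ^ n = 1 := by
    have := congrArg B.ind h1
    rw [map_pow, map_one] at this
    exact congrArg Subtype.val this
  obtain ⟨x, hx, j, hj, hxj⟩ := class23 (B.ind g1).2 h2
  obtain ⟨y, hy⟩ := B.ind_surj ⟨x, hx⟩
  refine ⟨y * g1 * y⁻¹, c * (y : K)⁻¹, ?_, j, hj, ?_⟩
  · push_cast
    rw [show ((g1 : ↥(normalizer (A e : Set K))) : K) = c⁻¹ * g * c from rfl]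
    group
  · rw [← hxj, map_mul, map_mul, map_inv, hy]
    rfl

/-- membership of the quotient -/
theorem mem_of_ind {h g : ↥(normalizer (A e : Set K))} (hh : B.ind h = B.ind g) : (h : K) * (g : K)⁻¹ ∈ A e := by
  exact (B.ind_ker (h * g⁻¹)).1 (by rw [map_mul, map_inv, hh, mul_inv_cancel])

/-- **every 2-element is a product of two elements of order 11, or has square one** -/
theorem two_eleven_abs [Finite K] (hodd : ¬ 2 ∣ (normalizer (A e : Set K)).index) {g : K} {n : ℕ} (hg : g ^ 2 ^ n = 1) :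
    g * g = 1 ∨ ∃ x y : K, x ^ 11 = 1 ∧ y ^ 11 = 1 ∧ g = x * y := by
  obtain ⟨h, c, rfl, j, hj, hind⟩ := into B hodd hg
  rcases Nat.eq_zero_or_pos j with rfl | hj0
  · left
    have h1 : B.ind h = B.ind 1 := by
      rw [map_one]
      apply Subtype.ext
      rw [hind]
      have h5 : el (Rs.getD 0 idP) = 1 := el_idP
      rw [h5]
      rfl
    have h2 := mem_of_ind B h1
    rw [OneMemClass.coe_one, inv_one, mul_one] at h2
    have h3 := B.sq_A h2
    calc c * h * c⁻¹ * (c * h * c⁻¹) = c * (h * h) * c⁻¹ := by group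
      _ = 1 := by rw [h3]; group
  right
  have k1 := pow_mk (ok_getD E1_ok j) (E1_none j hj) (E1_pow j hj)
  have k2 := pow_mk (ok_getD E2_ok j) (E2_none j hj) (E2_pow j hj)
  obtain ⟨a, ha, ha'⟩ := lift B (by decide) k1
  obtain ⟨b, hb, hb'⟩ := lift B (by decide) k2
  obtain ⟨p, q, hpq⟩ := split B (a := a) (b := b) (h := h) (k := Ek.getD j 0) (by
    intro z hz hzc
    refine fix_eq_one B (n := ((a * b ^ (Ek.getD j 0) : ↥(normalizer (A e : Set K))) : K))
      (m := (el (W j) : Equiv.Perm GolayPt)) ?_ ?_ (nodup_of (W_ok j) (W_chk j hj hj0)) hz hzc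
    · intro p
      rw [B.ind_spec, map_mul, map_pow, ha, hb, el_W]
      rfl
    · exact (mem_M23.1 (el_mem (W_ok j) (W_none j hj))).2) (by
    apply mem_of_ind
    rw [map_mul, ha, hb]
    apply Subtype.ext
    rw [hind, ← Nat.eq_of_beq_eq_true (E_mul j hj), el_pcomp (ok_getD E1_ok j) (ok_getD E2_ok j)]
    rfl)
  refine ⟨c * (p * a * p⁻¹) * c⁻¹, c * (q * b * q⁻¹) * c⁻¹, ?_, ?_, ?_⟩
  · rw [conj_pow, conj_pow, ha']; group
  · rw [conj_pow, conj_pow, hb']; group
  · rw [hpq]; group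

/-- **every 2-element is a product of two elements of order 23** -/
theorem two_prd_abs [Finite K] (hodd : ¬ 2 ∣ (normalizer (A e : Set K)).index) {g : K} {n : ℕ} (hg : g ^ 2 ^ n = 1) :
    ∃ x y c : K, x ^ 23 = 1 ∧ y = c * x⁻¹ * c⁻¹ ∧ g = x * y := by
  obtain ⟨h, c, rfl, j, hj, hind⟩ := into B hodd hg
  have k1 := pow_mk a_ok a_none aP_pow
  obtain ⟨a, ha, ha'⟩ := lift B (by decide) k1
  obtain ⟨b, hb⟩ := B.ind_surj ⟨_, el_mem (ok_getD Bs_ok j) (Bs_none j hj)⟩
  -- `h = v a b a⁻¹ b⁻¹ = (p a p⁻¹) b a⁻¹ b⁻¹`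
  have hv : (h : K) * ((a * b * a⁻¹ * b⁻¹ : ↥(normalizer (A e : Set K))) : K)⁻¹ ∈ A e := by
    apply mem_of_ind
    rw [map_mul, map_mul, map_mul, map_inv, map_inv, ha, hb]
    apply Subtype.ext
    rw [hind, comm_el hj]
    rfl
  obtain ⟨p, hp, hpv⟩ := fill B (s := a) (by
    intro z hz hzc
    refine fix_eq_one B (n := (a : K)) (m := (el aP : Equiv.Perm GolayPt)) ?_ ?_ a_nodup hz hzc
    · intro p
      rw [B.ind_spec, ha]
    · exact (mem_M23.1 (el_mem a_ok a_none)).2) hv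
  have key : (h : K) = (p * a * p⁻¹) * (b * (a : K)⁻¹ * (b : K)⁻¹) := by
    calc (h : K) = (h : K) * ((a * b * a⁻¹ * b⁻¹ : ↥(normalizer (A e : Set K))) : K)⁻¹ *
          ((a * b * a⁻¹ * b⁻¹ : ↥(normalizer (A e : Set K))) : K) := by group
      _ = p * (a * p⁻¹ * (a : K)⁻¹) * ((a * b * a⁻¹ * b⁻¹ : ↥(normalizer (A e : Set K))) : K) := by rw [hpv]
      _ = _ := by push_cast; group
  refine ⟨c * (p * a * p⁻¹) * c⁻¹, c * (b * (a : K)⁻¹ * (b : K)⁻¹) * c⁻¹, c * b * p⁻¹ * c⁻¹, ?_, ?_, ?_⟩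
  · rw [conj_pow, conj_pow, ha']; group
  · group
  · rw [key]; group

end

open Cfsg.Agent.H839.Fi23 Cfsg.Agent.LThreeFi23 Cfsg.Agent.Lib.PermNet Cfsg.Agent.Fischer.Fi23Hom

set_option Elab.async false in
set_option maxRecDepth 100000 in
theorem t11_sq : agree (t11 ++ t11) [] [11589, 8004, 8003, 8000, 8002, 8005, 7999, 8007, 8006, 0] = true := by
  (rewrite [show @Cfsg.Agent.LThreeFi23.agree = delta% @Cfsg.Agent.LThreeFi23.agree from by delta Cfsg.Agent.LThreeFi23.agree; rfl, show @Cfsg.Agent.LThreeFi23.ptw = delta% @Cfsg.Agent.LThreeFi23.ptw from by delta Cfsg.Agent.LThreeFi23.ptw; rfl, Cfsg.Agent.Lib.PermNetFast.ptWord_fast]; decide +kernel)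

/-- an element of order 11 is inverted by an element of square one -/
theorem sr_eleven (y : Spor.Fi23) (hy : y ^ 11 = 1) : I2 y := by
  have := Cfsg.Agent.KFacts.FiTTh.BasInv.finite
  have : Fact (Nat.Prime 11) := ⟨by norm_num⟩
  have h1 : elw t11 * elw t11 = 1 := by
    have h := elw_eq_of_agree t11_sq
    rw [elw_append] at h
    exact h
  have h2 : (elw t11)⁻¹ = elw t11 := inv_eq_of_mul_eq_one_left h1
  refine I2.of_sylow (p := 11) (by rw [Cfsg.Agent.Fischer.Fi23Simple.card_Fi23]; norm_num) (x := elw y11) (t := elw t11)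
    ?_ h1 ?_ hy
  · exact orderOf_eq_prime pow11 y11_ne
  · have := t11_conj
    rwa [h2] at this

/-- **every 2-element of `Fi23` is a product of four elements of square one** -/
theorem two_four {g : Spor.Fi23} {n : ℕ} (hg : g ^ 2 ^ n = 1) : I4 g := by
  have := Cfsg.Agent.KFacts.FiTTh.BasInv.finite
  rcases two_eleven_abs Cfsg.Agent.KFacts.FiTTh.BasInv.base Cfsg.Agent.KFacts.FiTTh.BasInv.hodd hg with
    h | ⟨x, y, hx, hy, rfl⟩
  · exact ⟨g, 1, 1, 1, h, by simp, by simp, by simp, by simp⟩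
  · obtain ⟨s1, t1, hs1, ht1, rfl⟩ := sr_eleven x hx
    obtain ⟨s2, t2, hs2, ht2, rfl⟩ := sr_eleven y hy
    exact ⟨s1, t1, s2, t2, hs1, ht1, hs2, ht2, by simp only [mul_assoc]⟩

/-- **every 2-element of `Fi23` is `x y` with `x` of order dividing 23 and `y` conjugate to `x⁻¹`** -/
theorem two_prd {g : Spor.Fi23} {n : ℕ} (hg : g ^ 2 ^ n = 1) :
    ∃ x y c : Spor.Fi23, x ^ 23 = 1 ∧ y = c * x⁻¹ * c⁻¹ ∧ g = x * y := by
  have := Cfsg.Agent.KFacts.FiTTh.BasInv.finite
  exact two_prd_abs Cfsg.Agent.KFacts.FiTTh.BasInv.base Cfsg.Agent.KFacts.FiTTh.BasInv.hodd hg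

end Cfsg.Agent.H822.Ore.Fi23Four
end

-- part: H29/Ore/FiA
section
/-!
# `Fi23`: elements of 3-power order (helper29, row `Fi23` of S2443 / S4171, `t = 1`)

* `fix_ncom` : a 3-element commuting with a transposition commutes with two noncommuting transpositions, so it is
  conjugate into `CC = C(z0, j) ≅ PΩ₇(3)` (`into_CC`);
* `cases` : a 3-element either is conjugate into `CC`, or is inverted by an involution, or its centralizer has odd order.
-/

set_option autoImplicit false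
set_option maxRecDepth 100000
set_option linter.constructorNameAsVariable false

namespace Cfsg.Agent.H29.Ore.Fi

open Subgroup Cfsg Cfsg.Agent.LThreeFi23 Cfsg.Agent.H838.Fi23 Cfsg.Agent.H838.Three Cfsg.Agent.H838.Mono
open Cfsg.Agent.Fischer.Fi23Hom
open Cfsg.Spor (Fi23)

theorem card_ncom {p : ℕ} (hp : p < 31671) :
    ((Finset.range 31671).filter fun q => q ∉ CS [p]).card = 28160 := by
  classical
  have h1 := card1 hp
  have h2 : (Finset.range 31671).filter (fun q => q ∉ CS [p]) = Finset.range 31671 \ CS [p] := by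
    ext q; simp
  have h3 : CS [p] ⊆ Finset.range 31671 := by
    intro q hq
    rw [Finset.mem_range]
    exact (mem_CS.1 hq).1
  rw [h2, Finset.card_sdiff_of_subset h3, h1, Finset.card_range]

theorem fix_ncom {g : Fi23} {n : ℕ} (hg : g ^ 3 ^ n = 1) {p : ℕ} (hp : p < 31671) (hf : rho g p = p) :
    ∃ q, q < 31671 ∧ rho g q = q ∧ ¬ Com p q := by
  classical
  have h3 : Fact (Nat.Prime 3) := ⟨Nat.prime_three⟩
  have hm : ∀ q : ℕ, q ∈ (Finset.range 31671).filter (fun q => q ∉ CS [p]) →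
      rho g q ∈ (Finset.range 31671).filter (fun q => q ∉ CS [p]) := by
    intro q hq
    rw [Finset.mem_filter, Finset.mem_range, mem_CS] at hq ⊢
    refine ⟨act_lt g hq.1, fun h => hq.2 ⟨hq.1, ?_⟩⟩
    intro p' hp'
    have h4 := h.2 p' hp'
    rw [List.mem_singleton] at hp'
    subst hp'
    exact (com_fix g hp hf).1 h4
  let f : Function.End ↥((Finset.range 31671).filter (fun q => q ∉ CS [p])) := fun q => ⟨rho g q.1, hm q.1 q.2⟩
  have hpow : ∀ (k : ℕ) (q : ↥((Finset.range 31671).filter (fun q => q ∉ CS [p]))), ((f ^ k) q).1 = rho (g ^ k) q.1 := by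
    intro k
    induction k with
    | zero => intro q; rw [pow_zero, pow_zero, map_one]; rfl
    | succ k ih =>
      intro q
      have e : (f ^ (k + 1)) q = (f ^ k) (f q) := by
        rw [pow_succ]; rfl
      rw [e, ih, pow_succ, map_mul, Equiv.Perm.mul_apply]
  have hf1 : f ^ 3 ^ n = 1 := by
    funext q
    apply Subtype.ext
    rw [hpow, hg, map_one]
    rfl
  have h4 := Equiv.Perm.card_fixedPoints_modEq hf1
  rw [Fintype.card_coe, card_ncom hp] at h4
  have h5 : Fintype.card ↥f.fixedPoints ≠ 0 := by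
    intro h6
    rw [h6] at h4
    exact absurd h4 (by decide)
  obtain ⟨⟨q, hq⟩⟩ := Fintype.card_pos_iff.1 (Nat.pos_of_ne_zero h5)
  have h6 : rho g q.1 = q.1 := congrArg Subtype.val hq
  have h7 := (Finset.mem_filter.1 q.2)
  refine ⟨q.1, Finset.mem_range.1 h7.1, h6, fun h8 => h7.2 ?_⟩
  rw [mem_CS]
  exact ⟨Finset.mem_range.1 h7.1, by simpa using h8⟩

/-- two noncommuting fixed points -/
theorem into_CC_of_pair {g : Fi23} {p q : ℕ} (hp : p < 31671) (hq : q < 31671) (hf : rho g p = p) (hf' : rho g q = q)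
    (h : ¬ Com p q) : ∃ k : Fi23, k * g * k⁻¹ ∈ CC := by
  obtain ⟨k, hk, hk'⟩ := conjJ0 hp hq h
  refine ⟨k, comm_of_rho ?_ ?_⟩
  · rw [map_mul, map_mul, Equiv.Perm.mul_apply, Equiv.Perm.mul_apply, inv_app hk, hf, hk]
  · rw [map_mul, map_mul, Equiv.Perm.mul_apply, Equiv.Perm.mul_apply, inv_app hk', hf', hk']

/-- a 3-element fixing a point is conjugate into `CC` -/
theorem into_CC {g : Fi23} {n : ℕ} (hg : g ^ 3 ^ n = 1) {p : ℕ} (hp : p < 31671) (hf : rho g p = p) :
    ∃ k : Fi23, k * g * k⁻¹ ∈ CC := by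
  obtain ⟨q, hq, hf', h⟩ := fix_ncom hg hp hf
  exact into_CC_of_pair hp hq hf hf' h

/-! ### involutions and their transpositions -/

open Cfsg.Agent.KFacts.FiTTh.Cent Cfsg.Agent.Fischer.Fi23Z in
theorem stable_pt {W : Fi23} {Ds Xs : Set Fi23} {P : Set ℕ}
    (hW : ∀ p < 31671, rho W p = p → ∀ d ∈ Ds, rho d p = p)
    (hP : ∀ p < 31671, rho W p = p → (∀ x ∈ Xs, rho x p = p) → p ∈ P)
    (hX : ∀ x ∈ Xs, IsConj z0 x) (hWX : ∀ x ∈ Xs, W * x = x * W) (hWD : ∀ d ∈ Ds, W * d = d * W)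
    {y : Fi23} (hy : y * W = W * y) {p : ℕ} (hp : p < 31671) (hd : T p ∈ Ds) : rho y p ∈ P := by
  obtain ⟨h, rfl⟩ := exists_rep hp
  exact stable hW hP hX hWX hWD hy (by rw [← T_eq (g := h) rfl]; exact hd)

open Cfsg.Agent.KFacts.FiTTh.Cent Cfsg.Agent.Fischer.Fi23Z in
theorem perm_two {y : Fi23} (hy : y * W2 = W2 * y) {p : ℕ} (hp : p = 0 ∨ p = 11589) :
    rho y p = 0 ∨ rho y p = 11589 := by
  have h1 : T 0 = z0 := T_zero
  have h2 : T 11589 = gen .a := T_pt .a
  have h3 : p < 31671 ∧ T p ∈ Ds2 := by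
    rcases hp with rfl | rfl
    · exact ⟨by norm_num, by rw [h1]; exact Or.inl rfl⟩
    · exact ⟨by norm_num, by rw [h2]; exact Or.inr rfl⟩
  have h4 := stable_pt (P := (({0, 11589} : Finset ℕ) : Set ℕ)) hW2 hP2 hX2 hWX2 hWD2 hy h3.1 h3.2
  simpa only [_root_.Finset.coe_insert, _root_.Finset.coe_singleton, _root_.Set.mem_insert_iff, _root_.Set.mem_singleton_iff] using h4

open Cfsg.Agent.KFacts.FiTTh.Cent Cfsg.Agent.Fischer.Fi23Z in
theorem perm_three {y : Fi23} (hy : y * W3 = W3 * y) {p : ℕ} (hp : p = 0 ∨ p = 8003 ∨ p = 11589) :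
    rho y p = 0 ∨ rho y p = 8003 ∨ rho y p = 11589 := by
  have h1 : T 0 = z0 := T_zero
  have h2 : T 11589 = gen .a := T_pt .a
  have h2' : T 8003 = gen .c := T_pt .c
  have h3 : p < 31671 ∧ T p ∈ Ds3 := by
    rcases hp with rfl | rfl | rfl
    · exact ⟨by norm_num, by rw [h1]; exact Or.inl rfl⟩
    · exact ⟨by norm_num, by rw [h2']; exact Or.inr (Or.inr rfl)⟩
    · exact ⟨by norm_num, by rw [h2]; exact Or.inr (Or.inl rfl)⟩
  have h4 := stable_pt (P := (({0, 8003, 11589} : Finset ℕ) : Set ℕ)) hW3 hP3 hX3 hWX3 hWD3 hy h3.1 h3.2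
  simpa only [_root_.Finset.coe_insert, _root_.Finset.coe_singleton, _root_.Set.mem_insert_iff, _root_.Set.mem_singleton_iff] using h4

/-! ### Elements of 3-power order with an even centralizer -/

/-- a power -/
theorem fix_of_sq {y : Fi23} {n : ℕ} (hy : y ^ 3 ^ n = 1) {p : ℕ} (h : rho (y * y) p = p) : rho y p = p := by
  obtain ⟨m, hm⟩ : ∃ m, 3 ^ n = 2 * m + 1 := (Odd.pow (by decide : Odd 3)).imp fun m hm => hm
  have h1 : (y * y) ^ (m + 1) = y := by
    rw [← pow_two, ← pow_mul, show 2 * (m + 1) = (2 * m + 1) + 1 by ring, ← hm, pow_succ, hy, one_mul]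
  have h2 : ∀ k : ℕ, rho ((y * y) ^ k) p = p := by
    intro k
    induction k with
    | zero => rw [pow_zero, map_one]; rfl
    | succ k ih => rw [pow_succ, map_mul, Equiv.Perm.mul_apply, h, ih]
  have h3 := h2 (m + 1)
  rwa [h1] at h3

theorem conj_Pw_of_cycle {x : Fi23} {n : ℕ} (hx : x ^ 3 ^ n = 1) {p q r : ℕ} (hp : p < 31671) (hq : q < 31671)
    (hr : r < 31671) (h4 : Com p q) (h1 : q ≠ p) (h5 : Com p r) (h6 : Com q r) (h2 : r ≠ p) (h3 : r ≠ q)
    (h7 : rho x p = q) (h8 : rho x q = r) (h9 : rho x r = p) : ∃ k : Fi23, k * x * k⁻¹ ∈ Pw := by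
  obtain ⟨g, e1, e2, e3⟩ := conjZ2 hp hq hr h4 h1 h5 h6 h2 h3
  obtain ⟨k, f1, f2, f3⟩ := conjZ2 (p := 7999) (q := 8001) (r := 0) (by norm_num) (by norm_num) (by norm_num) com_he
    (by norm_num) com_hz com_ez (by norm_num) (by norm_num)
  have a1 : rho (k⁻¹ * g) p = 7999 := by rw [map_mul, Equiv.Perm.mul_apply, e1, inv_app f1]
  have a2 : rho (k⁻¹ * g) q = 8001 := by rw [map_mul, Equiv.Perm.mul_apply, e2, inv_app f2]
  have a3 : rho (k⁻¹ * g) r = 0 := by rw [map_mul, Equiv.Perm.mul_apply, e3, inv_app f3]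
  set m := k⁻¹ * g with hm
  have app : ∀ {u v u' v' : ℕ}, rho m u = u' → rho m v = v' → rho x u = v → rho (m * x * m⁻¹) u' = v' := by
    intro u v u' v' hu hv huv
    rw [map_mul, map_mul, Equiv.Perm.mul_apply, Equiv.Perm.mul_apply, inv_app hu, huv, hv]
  have hK : m * x * m⁻¹ ∈ K := K_of_cycle (app a1 a2 h7) (app a2 a3 h8) (app a3 a1 h9)
  have hx' : (m * x * m⁻¹) ^ 3 ^ n = 1 := by rw [conj_pow, hx, mul_one, mul_inv_cancel]
  have : Fact (Nat.Prime 3) := ⟨by norm_num⟩
  have hcard : Nat.card ↥(Pw.subgroupOf K) = 3 ^ 5 := by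
    rw [Nat.card_congr (Subgroup.subgroupOfEquivOfLe Pw_le).toEquiv, Pw_card]; norm_num
  obtain ⟨l, hl⟩ := exists_conj_mem (G := ↥K) (p := 3) (n := 5) (Pw.subgroupOf K) (IsPGroup.of_card hcard)
    (by rw [hcard]) card_K (y := ⟨m * x * m⁻¹, hK⟩) (k := n) (Subtype.ext hx')
  have hl' := Subgroup.mem_subgroupOf.1 hl
  refine ⟨l.1 * m, ?_⟩
  have e : l.1 * m * x * (l.1 * m)⁻¹ = l.1 * (m * x * m⁻¹) * l.1⁻¹ := by group
  rw [e]
  exact hl'

theorem com_ltp {x y : Lt} (h : adjL x y = false) : Com (pt x) (pt y) := by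
  rw [com_pt_iff, fix_pt_iff]
  exact lt_comm x y h

theorem com_0a : Com 0 11589 := com_ltp (x := .z) (y := .a) (by decide)
theorem com_0c : Com 0 8003 := com_ltp (x := .z) (y := .c) (by decide)
theorem com_ac' : Com 8003 11589 := com_ltp (x := .c) (y := .a) (by decide)

theorem even_case {g : Fi23} {n : ℕ} (hg : g ^ 3 ^ n = 1) {z : Fi23} (hz : z * z = 1) (hz1 : z ≠ 1)
    (hzg : g * z = z * g) : (∃ p < 31671, rho g p = p) ∨ ∃ k : Fi23, k * g * k⁻¹ ∈ Pw := by
  have key : ∀ W : Fi23, IsConj z W →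
      ∃ h : Fi23, (h * g * h⁻¹) * W = W * (h * g * h⁻¹) := by
    intro W hW
    obtain ⟨h, rfl⟩ := isConj_iff.1 hW
    refine ⟨h, ?_⟩
    calc h * g * h⁻¹ * (h * z * h⁻¹) = h * (g * z) * h⁻¹ := by group
      _ = h * (z * g) * h⁻¹ := by rw [hzg]
      _ = _ := by group
  have back : ∀ (h : Fi23) (p : ℕ), p < 31671 → rho (h * g * h⁻¹) p = p → ∃ p < 31671, rho g p = p := by
    intro h p hp hpp
    refine ⟨rho h⁻¹ p, act_lt _ hp, ?_⟩
    rw [map_mul, map_mul, Equiv.Perm.mul_apply, Equiv.Perm.mul_apply] at hpp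
    have h2 := congrArg (rho h⁻¹) hpp
    rwa [← Equiv.Perm.mul_apply (rho h⁻¹), ← map_mul, inv_mul_cancel, map_one, Equiv.Perm.one_apply] at h2
  rcases Cfsg.Agent.KFacts.FiTTh.Has.inv z hz hz1 with h | h | h
  · left
    obtain ⟨h, hh⟩ := key _ h
    refine back h 0 (by norm_num) ?_
    rw [fix_iff _ (by norm_num), T_zero]
    exact hh
  · left
    obtain ⟨h, hh⟩ := key _ h
    have hy : (h * g * h⁻¹) ^ 3 ^ n = 1 := by rw [conj_pow, hg, mul_one, mul_inv_cancel]
    set y := h * g * h⁻¹ with hydef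
    refine back h 0 (by norm_num) ?_
    rw [← hydef]
    rcases perm_two hh (Or.inl rfl) with h0 | h0
    · exact h0
    · apply fix_of_sq hy
      rw [map_mul, Equiv.Perm.mul_apply, h0]
      rcases perm_two hh (Or.inr rfl) with h1 | h1
      · exact h1
      · have := (rho y).injective (h0.trans h1.symm)
        norm_num at this
  · obtain ⟨h, hh⟩ := key _ h
    have hy : (h * g * h⁻¹) ^ 3 ^ n = 1 := by rw [conj_pow, hg, mul_one, mul_inv_cancel]
    set y := h * g * h⁻¹ with hydef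
    have ha := perm_three hh (p := 0) (Or.inl rfl)
    have hb := perm_three hh (p := 8003) (Or.inr (Or.inl rfl))
    have hc := perm_three hh (p := 11589) (Or.inr (Or.inr rfl))
    have hinj : ∀ {p q r : ℕ}, rho y p = r → rho y q = r → p = q := fun h1 h2 => (rho y).injective (h1.trans h2.symm)
    have fixd : ∀ p, p < 31671 → rho y p = p → (∃ p < 31671, rho g p = p) ∨ ∃ k : Fi23, k * g * k⁻¹ ∈ Pw :=
      fun p hp hpp => Or.inl (back h p hp hpp)
    have hs : ∀ {p q : ℕ}, p < 31671 → q < 31671 → Com p q → Com q p := fun hp hq h => (com_comm hp hq).1 h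
    have conj : (∃ k : Fi23, k * y * k⁻¹ ∈ Pw) → (∃ p < 31671, rho g p = p) ∨ ∃ k : Fi23, k * g * k⁻¹ ∈ Pw := by
      rintro ⟨k, hk⟩
      refine Or.inr ⟨k * h, ?_⟩
      have e : k * h * g * (k * h)⁻¹ = k * (h * g * h⁻¹) * k⁻¹ := by group
      rw [e]; exact hk
    rcases ha with ha | ha | ha
    · exact fixd 0 (by norm_num) ha
    · rcases hb with hb | hb | hb
      · -- 0 ↔ 8003
        refine fixd 0 (by norm_num) (fix_of_sq hy ?_)
        rw [map_mul, Equiv.Perm.mul_apply, ha, hb]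
      · exact fixd 8003 (by norm_num) hb
      · rcases hc with hc | hc | hc
        · exact conj (conj_Pw_of_cycle hy (p := 0) (q := 8003) (r := 11589) (by norm_num) (by norm_num) (by norm_num)
            com_0c (by norm_num) com_0a com_ac' (by norm_num) (by norm_num) ha hb hc)
        · have := hinj ha hc; norm_num at this
        · exact fixd 11589 (by norm_num) hc
    · rcases hc with hc | hc | hc
      · refine fixd 0 (by norm_num) (fix_of_sq hy ?_)
        rw [map_mul, Equiv.Perm.mul_apply, ha, hc]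
      · rcases hb with hb | hb | hb
        · exact conj (conj_Pw_of_cycle hy (p := 0) (q := 11589) (r := 8003) (by norm_num) (by norm_num) (by norm_num)
            com_0a (by norm_num) com_0c (hs (by norm_num) (by norm_num) com_ac') (by norm_num) (by norm_num) ha hc hb)
        · exact fixd 8003 (by norm_num) hb
        · have := hinj ha hb; norm_num at this
      · exact fixd 11589 (by norm_num) hc

/-! ### The elements of the 3-group `Pw` -/

theorem CI.fix {x y : Fi23} (h : CI x y) (hy : ∃ p < 31671, rho y p = p) : ∃ p < 31671, rho x p = p := by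
  obtain ⟨g, h⟩ := h
  obtain ⟨p, hp, hpp⟩ := hy
  have h1 : rho (g * x * g⁻¹) p = p := by
    rcases h with h | h
    · rw [h]; exact hpp
    · rw [h]; exact inv_app hpp
  refine ⟨rho g⁻¹ p, act_lt _ hp, ?_⟩
  rw [map_mul, map_mul, Equiv.Perm.mul_apply, Equiv.Perm.mul_apply] at h1
  have h2 := congrArg (rho g⁻¹) h1
  rwa [← Equiv.Perm.mul_apply (rho g⁻¹), ← map_mul, inv_mul_cancel, map_one, Equiv.Perm.one_apply] at h2

theorem fix_ltw {w : List Lt} {x : Lt} (h : ∀ y ∈ w, adjL y x = false) : rho (elw w) (pt x) = pt x := by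
  induction w with
  | nil => rw [elw_nil, map_one]; rfl
  | cons y w ih =>
    rw [elw_cons, map_mul, Equiv.Perm.mul_apply, ih fun u hu => h u (List.mem_cons_of_mem _ hu)]
    rw [fix_pt_iff]
    exact lt_comm y x (h y List.mem_cons_self)

theorem uu_fix : rho uu 11589 = 11589 := by
  have h := fix_ltw (w := [.z, .j]) (x := .a) (by decide)
  rwa [elw_cons, elw_one] at h

theorem three_fix {x : Fi23} (hx : x ^ 3 = 1) : ∃ p < 31671, rho x p = p := by
  by_cases h1 : x = 1
  · exact ⟨0, by norm_num, by rw [h1, map_one]; rfl⟩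
  obtain ⟨k, hk⟩ := classes hx h1
  refine CI.fix hk ?_
  fin_cases k
  · exact ⟨11589, by norm_num, uu_fix⟩
  · exact ⟨0, by norm_num, fix_ltw (w := y135) (x := .z) (by decide)⟩
  · exact ⟨11589, by norm_num, fix_ltw (w := y324) (x := .a) (by decide)⟩
  · exact ⟨8002, by norm_num, fix_ltw (w := y27) (x := .f) (by decide)⟩

/-- the elements of the 3-group -/
noncomputable abbrev FF (u : ZMod 3 × V × ZMod 3) : Fi23 := F (el .a) (el .b) (el .c) (elw wR) (elw wt) u

theorem FF_zero (v : V) (j : ZMod 3) : rho (FF (0, v, j)) 0 = 0 := by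
  have ha : el .a ∈ stab [0] := by
    intro p hp; rw [List.mem_singleton] at hp; subst hp
    exact (fix_pt_iff _ .z).2 (lt_comm _ _ (by decide))
  have hb : el .b ∈ stab [0] := by
    intro p hp; rw [List.mem_singleton] at hp; subst hp
    exact (fix_pt_iff _ .z).2 (lt_comm _ _ (by decide))
  have hc : el .c ∈ stab [0] := by
    intro p hp; rw [List.mem_singleton] at hp; subst hp
    exact (fix_pt_iff _ .z).2 (lt_comm _ _ (by decide))
  have hR : elw wR ∈ stab [0] := by
    intro p hp; rw [List.mem_singleton] at hp; subst hp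
    exact ptsChk_spec k_pts (wR, 0, 0) (by simp)
  have h1 : q1 (el .a) (elw wR) ∈ stab [0] := mul_mem ha hR
  have h2 : q2 (el .a) (el .b) (elw wR) ∈ stab [0] := mul_mem (mul_mem hb h1) (inv_mem hb)
  have h3 : q3 (el .a) (el .b) (el .c) (elw wR) ∈ stab [0] := mul_mem (mul_mem hc h2) (inv_mem hc)
  have h4 : FF (0, v, j) ∈ stab [0] := by
    refine mul_mem (mul_mem ?_ (mul_mem (mul_mem (pow_mem h1 _) (pow_mem h2 _)) (pow_mem h3 _)))
      (pow_mem (mul_mem ha hb) _)
    change pz (elw wt) 0 ∈ _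
    rw [pz_zero]
    exact one_mem _
  exact h4 0 (by simp)

theorem FF_one : FF (0, 0, 0) = 1 := by
  change pz (elw wt) 0 * A _ _ _ _ 0 * pz _ 0 = _
  rw [pz_zero, pz_zero, A_zero, one_mul, one_mul]

theorem FF_cube0 (i : ZMod 3) (v : V) : (FF (i, v, 0)) ^ 3 = 1 := by
  rw [pow_succ, pow_two, F_mul cfg, F_mul cfg, ← FF_one]
  congr 1
  revert i v
  decide +kernel

theorem FF_cube1 (i : ZMod 3) (v : V) (h : v + sg v + sg (sg v) = 0) : (FF (i, v, 1)) ^ 3 = 1 := by
  rw [pow_succ, pow_two, F_mul cfg, F_mul cfg, ← FF_one]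
  congr 1
  refine Prod.ext ?_ (Prod.ext h ?_)
  · change i + i + i = 0
    revert i; decide
  · change (1 : ZMod 3) + 1 + 1 = 0
    decide

theorem a_FF (i : ZMod 3) (v : V) : el .a * FF (i, v, 2) * (el .a)⁻¹ = FF (i, ac .a v, 1) := by
  have h1 : el .a * FF (i, v, 2) * (el .a)⁻¹ = (el .a * pz (elw wt) i * (el .a)⁻¹) *
      (el .a * A (el .a) (el .b) (el .c) (elw wR) v * (el .a)⁻¹) * (el .a * pz (el .a * el .b) 2 * (el .a)⁻¹) :=
    conj3 _ _ _ _
  have h2 : el .a * pz (elw wt) i * (el .a)⁻¹ = pz (elw wt) i := by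
    have e : Commute (el .a) (pz (elw wt) i) := (show Commute (elw wt) (el .a) from cfg.ta).symm.pow_right _
    rw [e.eq, mul_inv_cancel_right]
  have h3 : el .a * pz (el .a * el .b) 2 * (el .a)⁻¹ = pz (el .a * el .b) 1 := by
    rw [pz_two, pz_one]
    have h4 := s_3 cfg
    have h5 : (el .a * el .b) ^ 2 = (el .a * el .b)⁻¹ := by
      apply eq_inv_of_mul_eq_one_left
      rw [← pow_succ]; exact h4
    rw [h5, s_i cfg, ai cfg]
    calc el .a * (el .b * el .a) * el .a = el .a * el .b * (el .a * el .a) := by group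
      _ = _ := by rw [cfg.a2, mul_one]
  rw [h1, h2, A_a cfg, h3]
  rfl

theorem dec_tr : ∀ v : V, v + sg v + sg (sg v) ≠ 0 → ∃ w : V, w + v + sg (-w) = (0, 0, 1) ∨ w + v + sg (-w) = (0, 0, 2) := by
  decide +kernel

/-- the first element of order 9 -/
def wD1 : List Lt := wt ++ (wA 0 0 1 ++ ([.a, .b] : List Cfsg.Agent.LThreeFi23.Lt))
/-- the second element of order 9 -/
def wD2 : List Lt := wt ++ (wA 0 0 2 ++ ([.a, .b] : List Cfsg.Agent.LThreeFi23.Lt))

theorem D1_eq : elw wD1 = FF (1, (0, 0, 1), 1) := by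
  unfold wD1
  rw [elw_append, elw_append, show wA 0 0 1 = wA (((0, 0, 1) : V).1.val) (((0, 0, 1) : V).2.1.val)
    (((0, 0, 1) : V).2.2.val) from rfl, A_eq, elw_cons, elw_one]
  change _ = pz (elw wt) 1 * A _ _ _ _ (0, 0, 1) * pz _ 1
  rw [pz_one, pz_one, mul_assoc]

theorem D2_eq : elw wD2 = FF (1, (0, 0, 2), 1) := by
  unfold wD2
  rw [elw_append, elw_append, show wA 0 0 2 = wA (((0, 0, 2) : V).1.val) (((0, 0, 2) : V).2.1.val)
    (((0, 0, 2) : V).2.2.val) from rfl, A_eq, elw_cons, elw_one]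
  change _ = pz (elw wt) 1 * A _ _ _ _ (0, 0, 2) * pz _ 1
  rw [pz_one, pz_one, mul_assoc]

theorem conj_FF (w v : V) : A (el .a) (el .b) (el .c) (elw wR) w * FF (1, v, 1) *
    (A (el .a) (el .b) (el .c) (elw wR) w)⁻¹ = FF (1, w + v + sg (-w), 1) := by
  have e0 : ∀ v : V, FF (1, v, 1) = elw wt * A (el .a) (el .b) (el .c) (elw wR) v * (el .a * el .b) := by
    intro v
    change pz (elw wt) 1 * A _ _ _ _ v * pz _ 1 = _
    rw [pz_one, pz_one]
  have e1 := (t_A cfg w).eq
  rw [e0, e0, ← A_neg cfg, A_add cfg, A_add cfg]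
  calc A (el .a) (el .b) (el .c) (elw wR) w * (elw wt * A (el .a) (el .b) (el .c) (elw wR) v * (el .a * el .b)) *
        A (el .a) (el .b) (el .c) (elw wR) (-w)
      = (A (el .a) (el .b) (el .c) (elw wR) w * elw wt) * A (el .a) (el .b) (el .c) (elw wR) v *
        ((el .a * el .b) * A (el .a) (el .b) (el .c) (elw wR) (-w)) := by group
    _ = _ := by rw [← e1, A_s cfg]; group

theorem case11 (v : V) : (∃ p < 31671, rho (FF (1, v, 1)) p = p) ∨ CI (FF (1, v, 1)) (elw wD1) ∨
    CI (FF (1, v, 1)) (elw wD2) := by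
  by_cases h : v + sg v + sg (sg v) = 0
  · exact Or.inl (three_fix (FF_cube1 1 v h))
  right
  obtain ⟨w, hw⟩ := dec_tr v h
  have e := conj_FF w v
  rcases hw with hw | hw
  · left
    refine ⟨A (el .a) (el .b) (el .c) (elw wR) w, Or.inl ?_⟩
    rw [e, hw, D1_eq]
  · right
    refine ⟨A (el .a) (el .b) (el .c) (elw wR) w, Or.inl ?_⟩
    rw [e, hw, D2_eq]

theorem Pw_case {x : Fi23} (hx : x ∈ Pw) : (∃ p < 31671, rho x p = p) ∨ CI x (elw wD1) ∨ CI x (elw wD2) := by
  have tr : ∀ {x y : Fi23}, CI x y → ((∃ p < 31671, rho y p = p) ∨ CI y (elw wD1) ∨ CI y (elw wD2)) →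
      ((∃ p < 31671, rho x p = p) ∨ CI x (elw wD1) ∨ CI x (elw wD2)) := by
    intro x y hxy h
    rcases h with h | h | h
    · exact Or.inl (CI.fix hxy h)
    · exact Or.inr (Or.inl (hxy.trans h))
    · exact Or.inr (Or.inr (hxy.trans h))
  obtain ⟨⟨i, v, j⟩, rfl⟩ := hx
  change (∃ p < 31671, rho (FF (i, v, j)) p = p) ∨ CI (FF (i, v, j)) _ ∨ CI (FF (i, v, j)) _
  have inv2 : ∀ (v : V) (j : ZMod 3), ∃ v' : V, CI (FF (2, v, j)) (FF (1, v', -j)) := by
    intro v j
    refine ⟨sg^[(-j).val] (-v), ?_⟩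
    refine CI.inv_left ?_
    rw [F_inv cfg]
    exact CI.refl _
  have j2 : ∀ v : V, (∃ p < 31671, rho (FF (1, v, 2)) p = p) ∨ CI (FF (1, v, 2)) (elw wD1) ∨
      CI (FF (1, v, 2)) (elw wD2) := by
    intro v
    exact tr (CI.of_conj (el .a) (a_FF 1 v)) (case11 _)
  rcases z3_cases i with rfl | rfl | rfl
  · exact Or.inl ⟨0, by norm_num, FF_zero v j⟩
  · rcases z3_cases j with rfl | rfl | rfl
    · exact Or.inl (three_fix (FF_cube0 1 v))
    · exact case11 v
    · exact j2 v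
  · rcases z3_cases j with rfl | rfl | rfl
    · exact Or.inl (three_fix (FF_cube0 2 v))
    · obtain ⟨v', hv'⟩ := inv2 v 1
      exact tr hv' (j2 v')
    · obtain ⟨v', hv'⟩ := inv2 v 2
      exact tr hv' (case11 v')

/-! ### The two classes of elements of order 9 without fixed points are strongly real -/

/-- an involution inverting the first element -/
def wu1 : List Lt := [.d, .e, .f, .g, .j, .b, .c, .d, .h, .i, .e, .d, .h, .f, .g, .e, .f, .c, .d, .e, .a, .b, .c, .d, .h, .i, .f,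
    .c, .d, .e, .b, .c, .d, .h, .a, .b, .c, .d, .e, .f, .g, .j, .z, .e, .c, .d, .h, .f, .g, .e, .f, .d, .e, .b,
    .c, .d, .h, .i, .e, .f, .d, .e, .c, .d, .h, .a, .b, .c, .d, .e, .f, .g, .d, .e, .a, .b, .c, .d, .h, .i, .f,
    .e, .d, .h, .a, .b, .c, .d, .e, .f, .d, .h, .i, .e, .b, .c, .d, .h, .a, .b, .c, .d, .e, .h, .i, .d, .h, .a,
    .b, .c, .d, .b, .c]

/-- an involution inverting the second element -/
def wu2 : List Lt := [.d, .h, .i, .f, .e, .d, .h, .f, .g, .e, .f, .c, .d, .e, .b, .c, .d, .h, .i, .g, .e, .f, .d, .e, .b, .c, .d,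
    .h, .a, .b, .c, .d, .e, .f, .g, .j, .h, .g, .e, .f, .d, .e, .c, .d, .h, .i, .e, .f, .d, .e, .c, .d, .h, .b,
    .c, .d, .e, .f, .g, .d, .h, .e, .f, .d, .e, .b, .c, .d, .h, .i, .d, .e, .b, .c, .d, .h, .a, .b, .c, .d, .e,
    .f, .i, .c, .d, .h, .b, .c, .d, .e, .i, .h, .d, .i]

set_option Elab.async false in
theorem k_u1 : eqM (wu1 ++ wu1) [] = true := by (rewrite [show @Cfsg.Agent.H838.Fi23.eqM = delta% @Cfsg.Agent.H838.Fi23.eqM from by delta Cfsg.Agent.H838.Fi23.eqM; rfl, Cfsg.Agent.Lib.PermNetFast.appWord_fast]; decide +kernel)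
set_option Elab.async false in
theorem k_u2 : eqM (wu2 ++ wu2) [] = true := by (rewrite [show @Cfsg.Agent.H838.Fi23.eqM = delta% @Cfsg.Agent.H838.Fi23.eqM from by delta Cfsg.Agent.H838.Fi23.eqM; rfl, Cfsg.Agent.Lib.PermNetFast.appWord_fast]; decide +kernel)
set_option Elab.async false in
theorem k_v1 : eqM (wu1 ++ wD1) (wD1.reverse ++ wu1) = true := by (rewrite [show @Cfsg.Agent.H838.Fi23.eqM = delta% @Cfsg.Agent.H838.Fi23.eqM from by delta Cfsg.Agent.H838.Fi23.eqM; rfl, Cfsg.Agent.Lib.PermNetFast.appWord_fast]; decide +kernel)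
set_option Elab.async false in
theorem k_v2 : eqM (wu2 ++ wD2) (wD2.reverse ++ wu2) = true := by (rewrite [show @Cfsg.Agent.H838.Fi23.eqM = delta% @Cfsg.Agent.H838.Fi23.eqM from by delta Cfsg.Agent.H838.Fi23.eqM; rfl, Cfsg.Agent.Lib.PermNetFast.appWord_fast]; decide +kernel)

/-- inverted by an element of square one -/
def SR (g : Fi23) : Prop := ∃ u : Fi23, u * u = 1 ∧ u * g * u⁻¹ = g⁻¹

theorem SR.of_words {u w : List Lt} (h1 : eqM (u ++ u) [] = true) (h2 : eqM (u ++ w) (w.reverse ++ u) = true) :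
    SR (elw w) := by
  refine ⟨elw u, ?_, ?_⟩
  · have h := elw_eq h1
    rwa [elw_append, elw_nil] at h
  · have h := elw_eq h2
    rw [elw_append, elw_append, elw_reverse] at h
    rw [h, mul_inv_cancel_right]

theorem SR.of_CI {x y : Fi23} (h : CI x y) (hy : SR y) : SR x := by
  obtain ⟨g, h⟩ := h
  obtain ⟨u, hu, hv⟩ := hy
  have hy' : ∀ y' : Fi23, (y' = y ∨ y' = y⁻¹) → u * y' * u⁻¹ = y'⁻¹ := by
    rintro y' (rfl | rfl)
    · exact hv
    · have e : u * y⁻¹ * u⁻¹ = (u * y * u⁻¹)⁻¹ := by group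
      rw [e, hv]
  refine ⟨g⁻¹ * u * g, ?_, ?_⟩
  · calc g⁻¹ * u * g * (g⁻¹ * u * g) = g⁻¹ * (u * u) * g := by group
      _ = 1 := by rw [hu]; group
  · have h3 := hy' _ h
    calc g⁻¹ * u * g * x * (g⁻¹ * u * g)⁻¹ = g⁻¹ * (u * (g * x * g⁻¹) * u⁻¹) * g := by group
      _ = g⁻¹ * (g * x * g⁻¹)⁻¹ * g := by rw [h3]
      _ = x⁻¹ := by group

theorem sr_D1 : SR (elw wD1) := SR.of_words k_u1 k_v1
theorem sr_D2 : SR (elw wD2) := SR.of_words k_u2 k_v2

/-- **a 3-element with an even centralizer fixes a transposition or is inverted by an involution** -/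
theorem even_or {g : Fi23} {n : ℕ} (hg : g ^ 3 ^ n = 1) {z : Fi23} (hz : z * z = 1) (hz1 : z ≠ 1)
    (hzg : g * z = z * g) : (∃ p < 31671, rho g p = p) ∨ SR g := by
  rcases even_case hg hz hz1 hzg with h | ⟨k, hk⟩
  · exact Or.inl h
  · have h1 : CI g (k * g * k⁻¹) := CI.of_conj k rfl
    rcases Pw_case hk with h | h | h
    · exact Or.inl (CI.fix h1 h)
    · exact Or.inr (SR.of_CI (h1.trans h) sr_D1)
    · exact Or.inr (SR.of_CI (h1.trans h) sr_D2)

end Cfsg.Agent.H29.Ore.Fi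
end

-- part: H146/Inv4/OrthOdd
section
/-!
# S4171, orthogonal groups over finite fields of odd order: products of four involutions
-/

set_option autoImplicit false
set_option linter.unusedSectionVars false

universe u v

namespace Cfsg.Agent.H146.Inv4

open Module QuadraticMap Cfsg.Agent.H146.Ore
open Cfsg.Agent.ClassicalGeometry.Reflection Cfsg.Agent.ClassicalGeometry.SpinorSign
  Cfsg.Agent.ClassicalGeometry.OmegaIndex Cfsg.Agent.ClassicalGeometry.Universal
  Cfsg.Agent.ClassicalGeometry.CartanDieudonne Cfsg.Agent.ClassicalGeometry.GenReflections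

theorem sq_mul {G : Type*} [Group G] {a b : G} (ha : a * a = 1) (hb : b * b = 1) (h : Commute a b) :
    a * b * (a * b) = 1 := by
  calc a * b * (a * b) = a * (b * a) * b := by group
    _ = a * (a * b) * b := by rw [h.eq]
    _ = (a * a) * (b * b) := by group
    _ = 1 := by rw [ha, hb, one_mul]

variable {ι : Type} [Fintype ι] [DecidableEq ι] {F : Type u} [Field F]

section G

variable {Q : QuadraticForm F (ι → F)} [Finite F]

theorem le_span {u z : ι → F} : z ∈ Pp Q (Submodule.span F {u}) ↔ polar (⇑Q) u z = 0 := by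
  constructor
  · intro h
    exact h u (Submodule.mem_span_singleton_self u)
  · intro h y hy
    obtain ⟨c, rfl⟩ := Submodule.mem_span_singleton.1 hy
    rw [polar_smul_left, h, smul_zero]

/-- cutting a subspace by a nonsingular vector -/
theorem cut (h2 : (2 : F) ≠ 0) (W : Submodule F (ι → F)) {u : ι → F} (hu : u ∈ W) (hu0 : Q u ≠ 0) :
    ∃ W' ≤ W, (∀ x ∈ W', polar (⇑Q) u x = 0) ∧ W' ⊓ Pp Q W' ≤ W ⊓ Pp Q W ∧
      finrank F W ≤ finrank F W' + 1 := by
  have hdec : W ≤ (W ⊓ Pp Q (Submodule.span F {u})) ⊔ Submodule.span F {u} := by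
    intro z hz
    have : z = (z - ((2 * Q u)⁻¹ * polar (⇑Q) u z) • u) + ((2 * Q u)⁻¹ * polar (⇑Q) u z) • u := by abel
    rw [this]
    refine Submodule.add_mem_sup ⟨W.sub_mem hz (W.smul_mem _ hu), ?_⟩
      (Submodule.smul_mem _ _ (Submodule.mem_span_singleton_self u))
    rw [SetLike.mem_coe, le_span]
    rw [polar_sub_right, polar_smul_right, polar_eq_two, smul_eq_mul]
    have : (2 * Q u) ≠ 0 := mul_ne_zero h2 hu0
    field_simp
    ring
  refine ⟨W ⊓ Pp Q (Submodule.span F {u}), inf_le_left, fun x hx => le_span.1 hx.2, ?_, ?_⟩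
  · rintro z ⟨hz, hz'⟩
    refine ⟨hz.1, fun y hy => ?_⟩
    obtain ⟨a, ha, b, hb, rfl⟩ := Submodule.mem_sup.1 (hdec hy)
    obtain ⟨c, rfl⟩ := Submodule.mem_span_singleton.1 hb
    rw [polar_add_left, polar_smul_left, le_span.1 hz.2, hz' a ha, smul_zero, add_zero]
  · have h4 := Submodule.finrank_mono hdec
    have h5 := Submodule.finrank_add_le_finrank_add_finrank (W ⊓ Pp Q (Submodule.span F {u}))
      (Submodule.span F {u})
    have h6 : finrank F (Submodule.span F {u}) ≤ 1 :=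
      (finrank_span_le_card ({u} : Set (ι → F))).trans (by simp)
    omega

/-- adding an orthogonal nonsingular vector to a nondegenerate subspace -/
theorem glue (h2 : (2 : F) ≠ 0) {U : Submodule F (ι → F)} (hU : U ⊓ Pp Q U = ⊥) {b : ι → F}
    (hb : b ∈ Pp Q U) (hb0 : Q b ≠ 0) :
    (U ⊔ Submodule.span F {b}) ⊓ Pp Q (U ⊔ Submodule.span F {b}) = ⊥ := by
  rw [eq_bot_iff]
  rintro z ⟨hz, hz'⟩
  rw [SetLike.mem_coe, Pp_sup] at hz'
  obtain ⟨a, ha, w, hw, rfl⟩ := Submodule.mem_sup.1 hz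
  obtain ⟨c, rfl⟩ := Submodule.mem_span_singleton.1 hw
  have hab : polar (⇑Q) b a = 0 := by rw [polar_comm]; exact hb a ha
  have h1 := hz'.2
  rw [polar_add_right, polar_smul_right, hab, polar_eq_two, zero_add, smul_eq_mul] at h1
  have hc : c = 0 := (mul_eq_zero.1 h1).resolve_right (mul_ne_zero h2 hb0)
  rw [hc, zero_smul, add_zero] at hz' ⊢
  have : a ∈ U ⊓ Pp Q U := ⟨ha, hz'.1⟩
  rwa [hU] at this

theorem commute_refl' {y : Cfsg.isometryGroup F (⇑Q)} {a : ι → F} (ha : Q a ≠ 0)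
    (h : act Q y a = a ∨ act Q y a = -a) : Commute (reflIso Q a ha) y := by
  have := conj_refl ha ha y h
  rw [mul_inv_eq_iff_eq_mul] at this
  exact this.symm

theorem commute_perp {a b : ι → F} (ha : Q a ≠ 0) (hb : Q b ≠ 0) (h : polar (⇑Q) a b = 0) :
    Commute (reflIso Q b hb) (reflIso Q a ha) :=
  commute_refl' hb (Or.inl (act_refl_of_perp ha h))

/-- a large eigenspace of an involution -/
theorem eig (h2 : (2 : F) ≠ 0) (hQ : (polarBilin Q).Nondegenerate) {s : Cfsg.isometryGroup F (⇑Q)}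
    (hs : s * s = 1) : ∃ E : Submodule F (ι → F), Fintype.card ι ≤ 2 * finrank F E ∧
      E ⊓ Pp Q E = ⊥ ∧ ∀ x ∈ E, ∀ hx : Q x ≠ 0, Commute (reflIso Q x hx) s := by
  have h1 := finrank_Em_neg h2 hs
  have hs' : negI Q * s * (negI Q * s) = 1 := by
    rw [show negI Q * s * (negI Q * s) = negI Q * (s * negI Q) * s by group, ← negI_comm,
        show negI Q * (negI Q * s) * s = (negI Q * negI Q) * (s * s) by group, negI_mul_negI, hs, one_mul]
  rcases le_total (finrank F (Em Q (negI Q * s))) (finrank F (Em Q s)) with h | h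
  · exact ⟨Em Q s, by omega, Em_nondeg h2 hQ hs, fun x hx hx0 => commute_refl' hx0 (Or.inr hx)⟩
  · exact ⟨Em Q (negI Q * s), by omega, Em_nondeg h2 hQ hs',
      fun x hx hx0 => commute_refl' hx0 (Or.inl (mem_Em_neg.1 hx))⟩

/-- reflections of both classes in a subspace of rank at least two -/
theorem exists_refl (h2 : (2 : F) ≠ 0) {W : Submodule F (ι → F)}
    (hW : finrank F (W ⊓ Pp Q W : Submodule F (ι → F)) + 2 ≤ finrank F W) (σ : ℤˣ) :
    ∃ a ∈ W, ∃ ha : Q a ≠ 0, del Q (reflIso Q a ha) = (-1, σ) := by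
  classical
  rcases sign_cases σ with rfl | rfl
  · obtain ⟨k, hk⟩ := FiniteField.exists_nonsquare (ringChar_ne_two h2)
    have hk0 : k ≠ 0 := by rintro rfl; exact hk IsSquare.zero
    obtain ⟨a, ha, hak⟩ := rep h2 hW k
    refine ⟨a, ha, by rw [hak]; exact hk0, ?_⟩
    rw [del_refl h2, if_neg (by rw [hak]; exact hk)]
  · obtain ⟨a, ha, hak⟩ := rep h2 hW 1
    refine ⟨a, ha, by rw [hak]; exact one_ne_zero, ?_⟩
    rw [del_refl h2, if_pos (by rw [hak]; exact IsSquare.one)]

/-- the conclusion -/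
def Four (Q : QuadraticForm F (ι → F)) (g : Cfsg.isometryGroup F (⇑Q)) : Prop :=
  ∃ t1 t2 t3 t4 : Cfsg.isometryGroup F (⇑Q), (t1 * t1 = 1 ∧ t2 * t2 = 1 ∧ t3 * t3 = 1 ∧ t4 * t4 = 1) ∧
    (del Q t1 = 1 ∧ del Q t2 = 1 ∧ del Q t3 = 1 ∧ del Q t4 = 1) ∧ g = t1 * t2 * t3 * t4

theorem four_of_path {s t c e f : Cfsg.isometryGroup F (⇑Q)} (hs : s * s = 1) (ht : t * t = 1)
    (hc : c * c = 1) (he : e * e = 1) (hf : f * f = 1) (h1 : Commute s c) (h2 : Commute c e)
    (h3 : Commute e f) (h4 : Commute f t) (d1 : del Q c = del Q s) (d2 : del Q e = del Q s)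
    (d3 : del Q f = del Q s) (d4 : del Q t = del Q s) : Four Q (s * t) := by
  have hd : del Q s * del Q s = 1 := by rw [← map_mul, hs, map_one]
  refine ⟨s * c, c * e, e * f, f * t, ⟨sq_mul hs hc h1, sq_mul hc he h2, sq_mul he hf h3,
    sq_mul hf ht h4⟩, ⟨?_, ?_, ?_, ?_⟩, ?_⟩
  · rw [map_mul, d1, hd]
  · rw [map_mul, d1, d2, hd]
  · rw [map_mul, d2, d3, hd]
  · rw [map_mul, d3, d4, hd]
  · calc s * t = s * 1 * 1 * 1 * t := by group
      _ = s * (c * c) * (e * e) * (f * f) * t := by rw [hc, he, hf]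
      _ = s * c * (c * e) * (e * f) * (f * t) := by group

/-- determinant `-1` -/
theorem case_det (h2 : (2 : F) ≠ 0) (hQ : (polarBilin Q).Nondegenerate) (hN : 6 ≤ Fintype.card ι)
    {s t : Cfsg.isometryGroup F (⇑Q)} (hs : s * s = 1) (ht : t * t = 1) (hd : del Q t = del Q s)
    (hd1 : (del Q s).1 = -1) : Four Q (s * t) := by
  obtain ⟨E, hE1, hE2, hE3⟩ := eig h2 hQ hs
  obtain ⟨E', hE1', hE2', hE3'⟩ := eig h2 hQ ht
  have hds : del Q s = (-1, (del Q s).2) := Prod.ext hd1 rfl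
  obtain ⟨u, hu, hu0, hdu⟩ := exists_refl h2 (W := E) (by rw [hE2, finrank_bot]; omega) (del Q s).2
  obtain ⟨v, hv, hv0, hdv⟩ := exists_refl h2 (W := E') (by rw [hE2', finrank_bot]; omega) (del Q s).2
  have hf1 : finrank F (Submodule.span F {u}) ≤ 1 :=
    (finrank_span_le_card ({u} : Set (ι → F))).trans (by simp)
  have hf2 : finrank F (Submodule.span F {v}) ≤ 1 :=
    (finrank_span_le_card ({v} : Set (ι → F))).trans (by simp)
  have hf3 := Submodule.finrank_add_le_finrank_add_finrank (Submodule.span F {u}) (Submodule.span F {v})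
  have hf4 := finrank_Pp hQ (Submodule.span F {u} ⊔ Submodule.span F {v})
  have hf5 : finrank F (Pp Q (Submodule.span F {u} ⊔ Submodule.span F {v}) ⊓
      Pp Q (Pp Q (Submodule.span F {u} ⊔ Submodule.span F {v})) : Submodule F (ι → F)) ≤
      finrank F (Submodule.span F {u} ⊔ Submodule.span F {v} : Submodule F (ι → F)) := by
    rw [Pp_Pp hQ]
    exact Submodule.finrank_mono inf_le_right
  obtain ⟨w, hw, hw0, hdw⟩ := exists_refl h2 (Q := Q)
    (W := Pp Q (Submodule.span F {u} ⊔ Submodule.span F {v})) (by omega) (del Q s).2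
  rw [Pp_sup, le_span] at hw
  exact four_of_path hs ht (reflIso_mul_self _ _ hu0) (reflIso_mul_self _ _ hw0)
    (reflIso_mul_self _ _ hv0) (hE3 u hu hu0).symm (commute_perp hu0 hw0 hw.1).symm
    (commute_perp hv0 hw0 hw.2) (hE3' v hv hv0) (by rw [hdu, ← hds]) (by rw [hdw, ← hds])
    (by rw [hdv, ← hds]) hd

/-- the projection to the complement of an orthogonal pair -/
theorem exists_proj (h2 : (2 : F) ≠ 0) {u u' : ι → F} (hu : Q u ≠ 0) (hu' : Q u' ≠ 0)
    (huu : polar (⇑Q) u u' = 0) : ∃ ρ : (ι → F) →ₗ[F] (ι → F),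
      (∀ x, polar (⇑Q) u (ρ x) = 0) ∧ (∀ x, polar (⇑Q) u' (ρ x) = 0) ∧
      (∀ x, x - ρ x ∈ Submodule.span F {u} ⊔ Submodule.span F {u'}) ∧
      (∀ x, polar (⇑Q) u x = 0 → polar (⇑Q) u' x = 0 → ρ x = x) := by
  let a : (ι → F) →ₗ[F] F := (2 * Q u)⁻¹ • (polarBilin Q u)
  let a' : (ι → F) →ₗ[F] F := (2 * Q u')⁻¹ • (polarBilin Q u')
  have ha : ∀ x, a x = (2 * Q u)⁻¹ * polar (⇑Q) u x := fun x => rfl
  have ha' : ∀ x, a' x = (2 * Q u')⁻¹ * polar (⇑Q) u' x := fun x => rfl
  have huu' : polar (⇑Q) u' u = 0 := by rw [polar_comm]; exact huu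
  have h1 : (2 * Q u) ≠ 0 := mul_ne_zero h2 hu
  have h3 : (2 * Q u') ≠ 0 := mul_ne_zero h2 hu'
  refine ⟨LinearMap.id - a.smulRight u - a'.smulRight u', ?_, ?_, ?_, ?_⟩
  · intro x
    simp only [LinearMap.sub_apply, LinearMap.id_apply, LinearMap.smulRight_apply]
    rw [polar_sub_right, polar_sub_right, polar_smul_right, polar_smul_right, huu, polar_eq_two, ha,
      smul_eq_mul, smul_eq_mul]
    field_simp
    ring
  · intro x
    simp only [LinearMap.sub_apply, LinearMap.id_apply, LinearMap.smulRight_apply]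
    rw [polar_sub_right, polar_sub_right, polar_smul_right, polar_smul_right, huu', polar_eq_two, ha',
      smul_eq_mul, smul_eq_mul]
    field_simp
    ring
  · intro x
    simp only [LinearMap.sub_apply, LinearMap.id_apply, LinearMap.smulRight_apply]
    rw [show x - (x - a x • u - a' x • u') = a x • u + a' x • u' by abel]
    exact Submodule.add_mem_sup (Submodule.smul_mem _ _ (Submodule.mem_span_singleton_self _))
      (Submodule.smul_mem _ _ (Submodule.mem_span_singleton_self _))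
  · intro x hx hx'
    simp only [LinearMap.sub_apply, LinearMap.id_apply, LinearMap.smulRight_apply]
    rw [ha, ha', hx, hx', mul_zero, mul_zero, zero_smul, zero_smul, sub_zero, sub_zero]

/-- a nonsingular vector of `E` with nonsingular projection -/
theorem exists_good (h2 : (2 : F) ≠ 0) (hQ : (polarBilin Q).Nondegenerate) {E : Submodule F (ι → F)}
    (hE : E ⊓ Pp Q E = ⊥) (hd : 4 ≤ finrank F E) {u u' : ι → F} (hu : Q u ≠ 0) (hu' : Q u' ≠ 0)
    (huu : polar (⇑Q) u u' = 0) : ∃ v ∈ E, ∃ b : ι → F, Q v ≠ 0 ∧ Q b ≠ 0 ∧ polar (⇑Q) u b = 0 ∧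
      polar (⇑Q) u' b = 0 ∧ v - b ∈ Submodule.span F {u} ⊔ Submodule.span F {u'} := by
  obtain ⟨ρ, r1, r2, r3, r4⟩ := exists_proj (Q := Q) h2 hu hu' huu
  by_contra hcon
  push Not at hcon
  have hc : ∀ v ∈ E, Q v ≠ 0 → Q (ρ v) = 0 := by
    intro v hv hv0
    by_contra h
    exact hcon v hv (ρ v) hv0 h (r1 v) (r2 v) (r3 v)
  have hp : ∀ x, ∀ y, polar (⇑Q) (ρ x) (ρ y) = polar (⇑Q) (ρ x) y := by
    intro x y
    have h := r3 y
    obtain ⟨p, hp, q, hq, hpq⟩ := Submodule.mem_sup.1 h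
    obtain ⟨α, rfl⟩ := Submodule.mem_span_singleton.1 hp
    obtain ⟨β, rfl⟩ := Submodule.mem_span_singleton.1 hq
    have e : y = α • u + β • u' + ρ y := by rw [hpq]; abel
    nth_rewrite 2 [e]
    rw [polar_add_right, polar_add_right, polar_smul_right, polar_smul_right, polar_comm (⇑Q) _ u, r1,
      polar_comm (⇑Q) _ u', r2]
    simp
  have hR : ∀ x ∈ E, Q (ρ x) = 0 := by
    intro x hx
    by_cases hx0 : Q x = 0
    · -- a nonsingular vector of `E` orthogonal to `x`
      have hW : Pp Q (Pp Q E ⊔ Submodule.span F {x}) ⊓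
          Pp Q (Pp Q (Pp Q E ⊔ Submodule.span F {x})) ≤ Submodule.span F {x} := by
        rw [Pp_Pp hQ]
        rintro z ⟨hz, hz'⟩
        rw [SetLike.mem_coe, Pp_sup, Pp_Pp hQ] at hz
        obtain ⟨a, ha, w, hw, rfl⟩ := Submodule.mem_sup.1 hz'
        have hwE : w ∈ E := (Submodule.span_singleton_le_iff_mem x E).2 hx hw
        have : a ∈ E ⊓ Pp Q E := ⟨by simpa using E.sub_mem hz.1 hwE, ha⟩
        rw [hE, Submodule.mem_bot] at this
        rw [this, zero_add]
        exact hw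
      have h1 := Submodule.finrank_mono hW
      have h3 : finrank F (Submodule.span F {x}) ≤ 1 :=
        (finrank_span_le_card ({x} : Set (ι → F))).trans (by simp)
      have h4 := finrank_Pp hQ (Pp Q E ⊔ Submodule.span F {x})
      have h5 := Submodule.finrank_add_le_finrank_add_finrank (Pp Q E) (Submodule.span F {x})
      have h6 := finrank_Pp hQ E
      obtain ⟨y, hy, hy0, -⟩ := exists_refl (Q := Q) h2
        (W := Pp Q (Pp Q E ⊔ Submodule.span F {x})) (by omega) 1
      rw [Pp_sup, Pp_Pp hQ] at hy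
      have e1 : Q (x + y) = Q y := by rw [map_add', hx0, hy.2]; ring
      have e2 : Q (x + -y) = Q y := by rw [map_add', hx0, polar_neg_right, hy.2, QuadraticMap.map_neg]; ring
      have f1 := hc _ (E.add_mem hx hy.1) (by rw [e1]; exact hy0)
      have f2 := hc _ (E.add_mem hx (E.neg_mem hy.1)) (by rw [e2]; exact hy0)
      have f3 := hc _ hy.1 hy0
      rw [map_add, map_add', f3] at f1
      rw [map_add, map_neg, map_add', QuadraticMap.map_neg, polar_neg_right, f3] at f2
      have : (2 : F) * Q (ρ x) = 0 := by linear_combination f1 + f2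
      exact (mul_eq_zero.1 this).resolve_left h2
    · exact hc x hx hx0
  -- a vector of `E` orthogonal to `u, u'`
  have h4 := finrank_Pp hQ (Pp Q E ⊔ (Submodule.span F {u} ⊔ Submodule.span F {u'}))
  have h5 := Submodule.finrank_add_le_finrank_add_finrank (Pp Q E)
    (Submodule.span F {u} ⊔ Submodule.span F {u'})
  have h5' := Submodule.finrank_add_le_finrank_add_finrank (Submodule.span F {u}) (Submodule.span F {u'})
  have h6 := finrank_Pp hQ E
  have hf1 : finrank F (Submodule.span F {u}) ≤ 1 :=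
    (finrank_span_le_card ({u} : Set (ι → F))).trans (by simp)
  have hf2 : finrank F (Submodule.span F {u'}) ≤ 1 :=
    (finrank_span_le_card ({u'} : Set (ι → F))).trans (by simp)
  obtain ⟨x, hx, hx0⟩ : ∃ x ∈ Pp Q (Pp Q E ⊔ (Submodule.span F {u} ⊔ Submodule.span F {u'})), x ≠ 0 := by
    by_contra h
    push Not at h
    have : Pp Q (Pp Q E ⊔ (Submodule.span F {u} ⊔ Submodule.span F {u'})) = ⊥ :=
      (Submodule.eq_bot_iff _).2 h
    rw [this, finrank_bot] at h4
    omega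
  rw [← sup_assoc, Pp_sup, Pp_sup, Pp_Pp hQ] at hx
  have hρx := r4 x hx.1.2 hx.2
  apply hx0
  have : x ∈ E ⊓ Pp Q E := by
    refine ⟨hx.1.1, fun y hy => ?_⟩
    have e1 := hR _ (E.add_mem hx.1.1 hy)
    rw [map_add, map_add', hR x hx.1.1, hR y hy, zero_add, zero_add, hp, hρx] at e1
    rw [polar_comm, e1]
  rwa [hE, Submodule.mem_bot] at this

/-- determinant `1` -/
theorem case_one (h2 : (2 : F) ≠ 0) (hQ : (polarBilin Q).Nondegenerate) (hN : 8 ≤ Fintype.card ι)
    {s t : Cfsg.isometryGroup F (⇑Q)} (hs : s * s = 1) (ht : t * t = 1) (hd : del Q t = del Q s)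
    (hd1 : (del Q s).1 = 1) : Four Q (s * t) := by
  obtain ⟨E, hE1, hE2, hE3⟩ := eig h2 hQ hs
  obtain ⟨E', hE1', hE2', hE3'⟩ := eig h2 hQ ht
  have hds : del Q s = (1, (del Q s).2) := Prod.ext hd1 rfl
  -- `u, u'`
  obtain ⟨u, hu, hu0, hdu⟩ := exists_refl h2 (W := E) (by rw [hE2, finrank_bot]; omega) 1
  obtain ⟨E₁, k1, k2, k3, k4⟩ := cut h2 E hu hu0
  rw [hE2, le_bot_iff] at k3
  obtain ⟨u', hu', hu0', hdu'⟩ := exists_refl h2 (W := E₁) (by rw [k3, finrank_bot]; omega) (del Q s).2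
  have huu := k2 u' hu'
  -- `v, v'`
  obtain ⟨v, hv, b, hv0, hb0, hub, hub', hvb⟩ := exists_good h2 hQ hE2' (by omega) hu0 hu0' huu
  obtain ⟨E₁', l1, l2, l3, l4⟩ := cut h2 E' hv hv0
  rw [hE2', le_bot_iff] at l3
  obtain ⟨v', hv', hv0', hdv'⟩ := exists_refl h2 (W := E₁') (by rw [l3, finrank_bot]; omega)
    ((del Q (reflIso Q v hv0)).2 * (del Q s).2)
  have hvv := l2 v' hv'
  -- the space spanned by `u, u', v`
  have n0 : (⊥ : Submodule F (ι → F)) ⊓ Pp Q ⊥ = ⊥ := bot_inf_eq _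
  have n1 := glue h2 n0 (b := u) (fun y hy => by
    rw [(Submodule.mem_bot F).1 hy, polar_zero_left]) hu0
  rw [bot_sup_eq] at n1
  have n2 := glue h2 n1 (b := u') (le_span.2 huu) hu0'
  have n3 := glue h2 n2 (b := b) (Pp_sup.2 ⟨le_span.2 hub, hub'⟩) hb0
  set! U := Submodule.span F {u} ⊔ Submodule.span F {u'} ⊔ Submodule.span F {b} with hU; rewrite [← hU] at n3
  have huU : u ∈ U := Submodule.mem_sup_left (Submodule.mem_sup_left (Submodule.mem_span_singleton_self u))
  have huU' : u' ∈ U := Submodule.mem_sup_left (Submodule.mem_sup_right (Submodule.mem_span_singleton_self u'))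
  have hbU : b ∈ U := Submodule.mem_sup_right (Submodule.mem_span_singleton_self b)
  have hvU : v ∈ U := by
    have : v = (v - b) + b := by abel
    rw [this]
    exact U.add_mem (Submodule.mem_sup_left hvb) hbU
  have hf1 : finrank F (Submodule.span F {u}) ≤ 1 :=
    (finrank_span_le_card ({u} : Set (ι → F))).trans (by simp)
  have hf2 : finrank F (Submodule.span F {u'}) ≤ 1 :=
    (finrank_span_le_card ({u'} : Set (ι → F))).trans (by simp)
  have hf3 : finrank F (Submodule.span F {b}) ≤ 1 :=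
    (finrank_span_le_card ({b} : Set (ι → F))).trans (by simp)
  have hf4 : finrank F (Submodule.span F {v'}) ≤ 1 :=
    (finrank_span_le_card ({v'} : Set (ι → F))).trans (by simp)
  have hg1 := Submodule.finrank_add_le_finrank_add_finrank (Submodule.span F {u}) (Submodule.span F {u'})
  have hg2 := Submodule.finrank_add_le_finrank_add_finrank
    (Submodule.span F {u} ⊔ Submodule.span F {u'}) (Submodule.span F {b})
  have hg3 := Submodule.finrank_add_le_finrank_add_finrank U (Submodule.span F {v'})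
  have hg4 := finrank_Pp hQ (U ⊔ Submodule.span F {v'})
  rw [← hU] at hg2
  have hrad : finrank F (Pp Q (U ⊔ Submodule.span F {v'}) ⊓
      Pp Q (Pp Q (U ⊔ Submodule.span F {v'})) : Submodule F (ι → F)) ≤ 1 := by
    rw [Pp_Pp hQ]
    have i1 : (Pp Q (U ⊔ Submodule.span F {v'}) ⊓ (U ⊔ Submodule.span F {v'})) ⊓ U = ⊥ := by
      rw [eq_bot_iff]
      rintro z ⟨hz, hz'⟩
      have : z ∈ U ⊓ Pp Q U := ⟨hz', (Pp_sup.1 hz.1).1⟩
      rwa [n3] at this
    have i2 := Submodule.finrank_sup_add_finrank_inf_eq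
      (Pp Q (U ⊔ Submodule.span F {v'}) ⊓ (U ⊔ Submodule.span F {v'})) U
    rw [i1, finrank_bot, add_zero] at i2
    have i3 : finrank F (Pp Q (U ⊔ Submodule.span F {v'}) ⊓ (U ⊔ Submodule.span F {v'}) ⊔ U :
        Submodule F (ι → F)) ≤ finrank F (U ⊔ Submodule.span F {v'} : Submodule F (ι → F)) :=
      Submodule.finrank_mono (sup_le inf_le_right le_sup_left)
    omega
  -- `w, w'`
  obtain ⟨w, hw, hw0, hdw⟩ := exists_refl (Q := Q) h2 (W := Pp Q (U ⊔ Submodule.span F {v'})) (by omega) 1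
  obtain ⟨W₁, m1, m2, m3, m4⟩ := cut h2 (Pp Q (U ⊔ Submodule.span F {v'})) hw hw0
  have m5 := Submodule.finrank_mono m3
  obtain ⟨w', hw', hw0', hdw'⟩ := exists_refl (Q := Q) h2 (W := W₁) (by omega) (del Q s).2
  have hww := m2 w' hw'
  have hw'' := m1 hw'
  rw [Pp_sup] at hw hw''
  have cc : ∀ {a a' x x' : ι → F} (ha : Q a ≠ 0) (ha' : Q a' ≠ 0) (hx : Q x ≠ 0) (hx' : Q x' ≠ 0),
      polar (⇑Q) a x = 0 → polar (⇑Q) a x' = 0 → polar (⇑Q) a' x = 0 → polar (⇑Q) a' x' = 0 →
      Commute (reflIso Q a ha * reflIso Q a' ha') (reflIso Q x hx * reflIso Q x' hx') := by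
    intro a a' x x' ha ha' hx hx' h1 h3 h4 h5
    exact Commute.mul_left (Commute.mul_right (commute_perp ha hx h1).symm (commute_perp ha hx' h3).symm)
      (Commute.mul_right (commute_perp ha' hx h4).symm (commute_perp ha' hx' h5).symm)
  have hsq : ∀ {a a' : ι → F} (ha : Q a ≠ 0) (ha' : Q a' ≠ 0), polar (⇑Q) a a' = 0 →
      (reflIso Q a ha * reflIso Q a' ha') * (reflIso Q a ha * reflIso Q a' ha') = 1 := by
    intro a a' ha ha' h
    exact sq_mul (reflIso_mul_self _ _ ha) (reflIso_mul_self _ _ ha') (commute_perp ha ha' h).symm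
  have hsgn : ∀ x : ℤˣ, x * x = 1 := fun x => Int.units_mul_self x
  refine four_of_path (c := reflIso Q u hu0 * reflIso Q u' hu0') (e := reflIso Q w hw0 * reflIso Q w' hw0')
    (f := reflIso Q v hv0 * reflIso Q v' hv0') hs ht (hsq hu0 hu0' huu) (hsq hw0 hw0' hww)
    (hsq hv0 hv0' hvv) ?_ ?_ ?_ ?_ ?_ ?_ ?_ hd
  · exact ((hE3 u hu hu0).mul_left (hE3 u' (k1 hu') hu0')).symm
  · exact cc hu0 hu0' hw0 hw0' (hw.1 u huU) (hw''.1 u huU) (hw.1 u' huU') (hw''.1 u' huU')
  · exact (cc hv0 hv0' hw0 hw0' (hw.1 v hvU) (hw''.1 v hvU) hw.2 hw''.2).symm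
  · exact (hE3' v hv hv0).mul_left (hE3' v' (l1 hv') hv0')
  · rw [map_mul, hdu, hdu', hds]
    simp
  · rw [map_mul, hdw, hdw', hds]
    simp
  · rw [map_mul, hdv', hds]
    apply Prod.ext
    · have : (del Q (reflIso Q v hv0)).1 = -1 := by
        classical
        rw [del_refl h2]
      rw [Prod.fst_mul, this]
      simp
    · rw [Prod.snd_mul]
      show (del Q (reflIso Q v hv0)).2 * ((del Q (reflIso Q v hv0)).2 * (del Q s).2) = (del Q s).2
      rw [← mul_assoc, hsgn, one_mul]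

/-- **every element of `Ω` is a product of four involutions** (odd characteristic, dimension at least 7) -/
theorem four (h2 : (2 : F) ≠ 0) (hQ : (polarBilin Q).Nondegenerate) (hN : 7 ≤ Fintype.card ι)
    (g : Cfsg.isometryGroup F (⇑Q)) (hg : del Q g = 1) : Four Q g := by
  obtain ⟨s, t, hs, ht, rfl, -, -⟩ := exists_fac_grp h2 hQ g
  have hdel : del Q t = del Q s := by
    have e1 : del Q s * del Q t = 1 := by rw [← map_mul, hg]
    have e2 : del Q s * del Q s = 1 := by rw [← map_mul, hs, map_one]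
    rw [← e2] at e1
    exact mul_left_cancel e1
  rcases del_fst_cases h2 hQ s with h | h
  · by_cases hN8 : 8 ≤ Fintype.card ι
    · exact case_one h2 hQ hN8 hs ht hdel h
    · have hN7 : Fintype.card ι = 7 := by omega
      have hneg : ∀ x : Cfsg.isometryGroup F (⇑Q), x * x = 1 → negI Q * x * (negI Q * x) = 1 := by
        intro x hx
        rw [show negI Q * x * (negI Q * x) = negI Q * (x * negI Q) * x by group, ← negI_comm,
          show negI Q * (negI Q * x) * x = (negI Q * negI Q) * (x * x) by group, negI_mul_negI, hx, one_mul]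
      have h4 : (del Q (negI Q)).1 = -1 := by
        have h5 := del_fst h2 hQ _ (negI Q) negI_mul_negI rfl
        have h6 : Em Q (negI Q) = ⊤ := by
          rw [eq_top_iff]
          intro x _
          rw [mem_Em, act_negI]
        rw [h5, h6, finrank_top, finrank_fintype_fun_eq_card, hN7]
        exact Odd.neg_one_pow (by decide)
      have := case_det h2 hQ (by omega) (hneg s hs) (hneg t ht) (by rw [map_mul, map_mul, hdel])
        (by rw [map_mul, Prod.fst_mul, h4, h, mul_one])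
      rw [show negI Q * s * (negI Q * t) = negI Q * (s * negI Q) * t by group, ← negI_comm,
          show negI Q * (negI Q * s) * t = (negI Q * negI Q) * (s * t) by group, negI_mul_negI,
          one_mul] at this
      exact this
  · exact case_det h2 hQ (by omega) hs ht hdel h

end G

/-- the projective group -/
theorem i4_omega {ι : Type} [Fintype ι] [DecidableEq ι] {F : Type u} [Field F] [Finite F]
    {Q : QuadraticForm F (ι → F)} (h2 : (2 : F) ≠ 0) (hQ : (polarBilin Q).Nondegenerate)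
    (hN : 7 ≤ Fintype.card ι) : I4 (Cfsg.POmega F ⇑Q) := by
  have key : ∀ g : Cfsg.isometryGroup F ⇑Q, g ∈ Cfsg.Omega F ⇑Q ↔ del Q g = 1 := by
    intro g
    rw [mem_Omega_iff h2 _ hQ (by omega) one_ne_zero]
    exact (detSpinor_eq_one_iff _ _ g).symm
  refine I4.quot (Z := Subgroup.center (Cfsg.Omega F ⇑Q)) fun g => ?_
  obtain ⟨g, hg⟩ := g
  obtain ⟨t1, t2, t3, t4, ⟨a1, a2, a3, a4⟩, ⟨d1, d2, d3, d4⟩, h⟩ := four h2 hQ hN g ((key g).1 hg)
  refine ⟨⟨t1, (key _).2 d1⟩, ⟨t2, (key _).2 d2⟩, ⟨t3, (key _).2 d3⟩, ⟨t4, (key _).2 d4⟩, 1,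
    ?_, ?_, ?_, ?_, Subgroup.one_mem _, ?_⟩
  · rw [show (⟨t1, (key _).2 d1⟩ : Cfsg.Omega F ⇑Q) * ⟨t1, (key _).2 d1⟩ = 1 from Subtype.ext a1]
    exact Subgroup.one_mem _
  · rw [show (⟨t2, (key _).2 d2⟩ : Cfsg.Omega F ⇑Q) * ⟨t2, (key _).2 d2⟩ = 1 from Subtype.ext a2]
    exact Subgroup.one_mem _
  · rw [show (⟨t3, (key _).2 d3⟩ : Cfsg.Omega F ⇑Q) * ⟨t3, (key _).2 d3⟩ = 1 from Subtype.ext a3]
    exact Subgroup.one_mem _
  · rw [show (⟨t4, (key _).2 d4⟩ : Cfsg.Omega F ⇑Q) * ⟨t4, (key _).2 d4⟩ = 1 from Subtype.ext a4]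
    exact Subgroup.one_mem _
  · rw [mul_one]
    exact Subtype.ext h

theorem two_ne_zero_of_odd {F : Type*} [Field F] [Fintype F] (hodd : Odd (Fintype.card F)) :
    (2 : F) ≠ 0 := by
  intro h
  have h1 : ringChar F = 2 := by
    have h1 : ((2 : ℕ) : F) = 0 := by exact_mod_cast h
    have h3 : ringChar F ∣ 2 := (ringChar.spec F 2).1 h1
    have h4 : (ringChar F).Prime := CharP.char_is_prime F (ringChar F)
    exact (Nat.prime_dvd_prime_iff_eq h4 Nat.prime_two).1 h3
  have h5 : Fintype.card F % 2 = 0 := FiniteField.even_card_of_char_two h1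
  rw [Nat.odd_iff] at hodd
  omega

open Cfsg.Agent.LieClassical.OmegaReindex

theorem i4_poodd_form {F : Type*} [Field F] [Fintype F] (h2 : (2 : F) ≠ 0) {m : ℕ} (hm : 3 ≤ m) :
    I4 (Cfsg.POmega F (Cfsg.quadFormOdd m F)) := by
  rw [← coe_quadOdd]
  refine i4_omega h2 (quadOdd_nondegenerate h2) ?_
  rw [Fintype.card_sum, Fintype.card_sum, Fintype.card_fin, Fintype.card_unit]
  omega

/-- **row `PΩ_{2m+1}(q)`** -/
theorem i4_poodd {G : Type*} [Group G] (h : Cfsg.IsPOmegaOdd G) : I4 G := by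
  obtain ⟨F, _, _, m, hm, hodd, ⟨e⟩⟩ := h
  exact I4.congr e.symm (i4_poodd_form (two_ne_zero_of_odd hodd) hm)

end Cfsg.Agent.H146.Inv4
end

-- part: H29/Ore/FiB
section
/-!
# `Fi23`: the elements of odd order are commutators and products of four elements with square one (helper29)

Row `Fi23` of S2443 and S4171, elements of odd order (`t = 1`).  Both use the same case distinction `odd_cases`: an element
of odd order commutes with a conjugate of `uu = z0 j` (then it lies in `⟨uu⟩ × PΩ₇(3)`), or is inverted by an involution,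
or its centralizer has order at most `26867295`.
-/

set_option autoImplicit false
set_option maxRecDepth 100000
set_option linter.constructorNameAsVariable false

namespace Cfsg.Agent.H29.Ore.Fi

open Subgroup Cfsg Cfsg.Agent.LThreeFi23 Cfsg.Agent.H838.Fi23 Cfsg.Agent.H838.Three Cfsg.Agent.H838.Mono
open Cfsg.Agent.Fischer.Fi23Hom Cfsg.Agent.H777.Ore
open Cfsg.Spor (Fi23)

/-! ### The subgroup `CC ≅ PΩ₇(3)` -/

theorem allC_POmega : AllC (POmega (ZMod 3) (quadFormOdd 3 (ZMod 3))) := by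
  have h : AllC ↥(Omega (ZMod 3) (quadFormOdd 3 (ZMod 3))) := fun g =>
    Cfsg.Agent.S2447.result (F := ZMod 3) (by rw [ZMod.card]; decide) 3 le_rfl g
  exact AllC.of_surjective (QuotientGroup.mk' _) (QuotientGroup.mk'_surjective _) h

theorem allC_CC : AllC ↥CC := AllC.congr eO.symm allC_POmega

theorem inv4_CC : Inv4 ↥CC := by
  have h : Cfsg.Agent.H146.Inv4.I4 (POmega (ZMod 3) (quadFormOdd 3 (ZMod 3))) :=
    Cfsg.Agent.H146.Inv4.i4_poodd_form (by decide) le_rfl
  intro g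
  obtain ⟨a, b, c, d, ha, hb, hc, hd, hg⟩ := h (eO g)
  refine ⟨eO.symm a, eO.symm b, eO.symm c, eO.symm d, ?_, ?_, ?_, ?_, ?_⟩
  · rw [← map_mul, ha, map_one]
  · rw [← map_mul, hb, map_one]
  · rw [← map_mul, hc, map_one]
  · rw [← map_mul, hd, map_one]
  · rw [← map_mul, ← map_mul, ← map_mul, ← hg, MulEquiv.symm_apply_apply]

theorem z_uu : el .z * uu * (el .z)⁻¹ = uu⁻¹ := by
  have hz := el_sq .z
  have hj := el_sq .j
  have hz' := el_inv .z
  have hj' := el_inv .j
  unfold uu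
  rw [mul_inv_rev, hz', hj', ← mul_assoc, hz, one_mul]

theorem z_uu_pow (i : ℕ) : el .z * uu ^ i * (el .z)⁻¹ = (uu ^ i)⁻¹ := by
  rw [← conj_pow, z_uu, inv_pow]

/-- the elements of `C(uu)` -/
theorem isC_uu {g : Fi23} (hg : g ∈ centralizer ({uu} : Set Fi23)) : IsC g := by
  obtain ⟨i, c, hc, rfl⟩ := exists_form hg
  obtain ⟨p, q, hpq⟩ := allC_CC ⟨c, hc⟩
  have hpq' : c = p.1 * q.1 * p.1⁻¹ * q.1⁻¹ := congrArg Subtype.val hpq
  have h3 : (uu ^ i) ^ 3 = 1 := by rw [← pow_mul, mul_comm, pow_mul, uu_pow, one_pow]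
  have cz : ∀ x : ↥CC, Commute (el .z) x.1 := fun x => (mem_CC.1 x.2).1.symm
  have cu : ∀ x : ↥CC, Commute (uu ^ i) x.1 := fun x =>
    (show Commute uu x.1 from (mem_centralizer_singleton_iff.1 (CC_le x.2)).symm).pow_left i
  refine isC_mul_of_commute (a := el .z) (b := uu ^ i) (c := p.1) (d := q.1) ?_ hpq' (cz p) (cz q) (cu p) (cu q)
  rw [z_uu_pow]
  have h4 : (uu ^ i)⁻¹ * (uu ^ i)⁻¹ = uu ^ i := by
    rw [← mul_inv_rev, inv_eq_iff_mul_eq_one, ← pow_two, ← pow_succ]
    exact h3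
  exact h4.symm

theorem i4_uu {g : Fi23} (hg : g ∈ centralizer ({uu} : Set Fi23)) : I4 g := by
  obtain ⟨i, c, hc, rfl⟩ := exists_form hg
  obtain ⟨p, q, r, s, hp, hq, hr, hs, hpq⟩ := inv4_CC ⟨c, hc⟩
  have hpq' : c = p.1 * q.1 * r.1 * s.1 := congrArg Subtype.val hpq
  have cz : ∀ x : ↥CC, Commute (el .z) x.1 := fun x => (mem_CC.1 x.2).1.symm
  have cu : ∀ x : ↥CC, Commute (uu ^ i) x.1 := fun x =>
    (show Commute uu x.1 from (mem_centralizer_singleton_iff.1 (CC_le x.2)).symm).pow_left i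
  have hz := el_sq .z
  have hz' := el_inv .z
  have h1 := z_uu_pow i
  have e1 : (el .z * p.1) * (el .z * p.1) = 1 := by
    have e := (cz p).eq
    have h := congrArg Subtype.val hp
    calc (el .z * p.1) * (el .z * p.1) = el .z * (p.1 * el .z) * p.1 := by group
      _ = el .z * (el .z * p.1) * p.1 := by rw [e]
      _ = (el .z * el .z) * (p.1 * p.1) := by group
      _ = 1 := by rw [hz, one_mul]; exact h
  have e2 : (el .z * uu ^ i) * (el .z * uu ^ i) = 1 := by
    rw [hz'] at h1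
    calc (el .z * uu ^ i) * (el .z * uu ^ i) = (el .z * uu ^ i * el .z) * uu ^ i := by group
      _ = 1 := by rw [h1, inv_mul_cancel]
  have e3 : (el .z * uu ^ i * q.1) * (el .z * uu ^ i * q.1) = 1 := by
    have e : Commute (el .z * uu ^ i) q.1 := (cz q).mul_left (cu q)
    have h := congrArg Subtype.val hq
    calc (el .z * uu ^ i * q.1) * (el .z * uu ^ i * q.1) = (el .z * uu ^ i) * (q.1 * (el .z * uu ^ i)) * q.1 := by group
      _ = (el .z * uu ^ i) * ((el .z * uu ^ i) * q.1) * q.1 := by rw [e.eq]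
      _ = ((el .z * uu ^ i) * (el .z * uu ^ i)) * (q.1 * q.1) := by group
      _ = 1 := by rw [e2, one_mul]; exact h
  refine ⟨el .z * p.1, el .z * uu ^ i * q.1, r.1, s.1, e1, e3, congrArg Subtype.val hr, congrArg Subtype.val hs, ?_⟩
  have e : Commute (el .z * uu ^ i) p.1 := (cz p).mul_left (cu p)
  calc uu ^ i * c = uu ^ i * (p.1 * q.1 * r.1 * s.1) := by rw [hpq']
    _ = (el .z * el .z) * uu ^ i * p.1 * q.1 * r.1 * s.1 := by rw [hz]; group
    _ = el .z * ((el .z * uu ^ i) * p.1) * q.1 * r.1 * s.1 := by group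
    _ = el .z * (p.1 * (el .z * uu ^ i)) * q.1 * r.1 * s.1 := by rw [e.eq]
    _ = _ := by group

theorem SR.i4 {g : Fi23} (h : SR g) : I4 g := by
  obtain ⟨u, hu, hv⟩ := h
  have hu' : u⁻¹ = u := inv_eq_of_mul_eq_one_left hu
  refine ⟨u, u * g, 1, 1, hu, ?_, by rw [mul_one], by rw [mul_one], ?_⟩
  · calc u * g * (u * g) = (u * g * u) * g := by group
      _ = (u * g * u⁻¹) * g := by rw [hu']
      _ = 1 := by rw [hv, inv_mul_cancel]
  · rw [mul_one, mul_one, ← mul_assoc, hu, one_mul]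

theorem SR.isC {g : Fi23} (h : SR g) (ho : Odd (orderOf g)) : IsC g := by
  obtain ⟨u, -, hv⟩ := h
  exact isC_of_real_odd hv ho

theorem I4.conj' {g : Fi23} (x : Fi23) (h : I4 (x * g * x⁻¹)) : I4 g := by
  obtain ⟨a, b, c, d, ha, hb, hc, hd, hg⟩ := h
  have key : ∀ y : Fi23, y * y = 1 → (x⁻¹ * y * x) * (x⁻¹ * y * x) = 1 := by
    intro y hy
    calc (x⁻¹ * y * x) * (x⁻¹ * y * x) = x⁻¹ * (y * y) * x := by group
      _ = 1 := by rw [hy]; group
  refine ⟨x⁻¹ * a * x, x⁻¹ * b * x, x⁻¹ * c * x, x⁻¹ * d * x, key a ha, key b hb, key c hc, key d hd, ?_⟩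
  calc g = x⁻¹ * (x * g * x⁻¹) * x := by group
    _ = x⁻¹ * (a * b * c * d) * x := by rw [hg]
    _ = _ := by group

/-! ### Elements of 3-power order -/

theorem card_cent_le {x y : Fi23} (h : ∀ g : Fi23, g * x = x * g → g * y = y * g) :
    Nat.card ↥(centralizer ({x} : Set Fi23)) ∣ Nat.card ↥(centralizer ({y} : Set Fi23)) := by
  apply card_dvd_of_le
  intro g hg
  rw [mem_centralizer_singleton_iff] at hg ⊢
  exact h g hg

/-- **3-elements** -/
theorem three_cases {g : Fi23} {n : ℕ} (hg : g ^ 3 ^ n = 1) :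
    (∃ k : Fi23, k * g * k⁻¹ ∈ centralizer ({uu} : Set Fi23)) ∨ SR g ∨
      Nat.card ↥(centralizer ({g} : Set Fi23)) ≤ 26867295 := by
  have hfin : Finite Fi23 := Cfsg.Agent.H199.NSmFi23.finite
  have h3 : Fact (Nat.Prime 3) := ⟨Nat.prime_three⟩
  have h2 : Fact (Nat.Prime 2) := ⟨Nat.prime_two⟩
  by_cases h1 : g = 1
  · left
    refine ⟨1, ?_⟩
    rw [h1, mul_one, mul_inv_cancel]
    exact one_mem _
  by_cases he : 2 ∣ Nat.card ↥(centralizer ({g} : Set Fi23))
  · obtain ⟨⟨z, hzg⟩, hz⟩ := exists_prime_orderOf_dvd_card' (G := ↥(centralizer ({g} : Set Fi23))) 2 he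
    rw [Subgroup.orderOf_mk] at hz
    have hzz : z * z = 1 := by rw [← pow_two, ← hz, pow_orderOf_eq_one]
    have hz1 : z ≠ 1 := by
      rintro rfl
      rw [orderOf_one] at hz
      omega
    rcases even_or hg hzz hz1 (mem_centralizer_singleton_iff.1 hzg).symm with ⟨p, hp, hpp⟩ | h
    · obtain ⟨k, hk⟩ := into_CC hg hp hpp
      exact Or.inl ⟨k, CC_le hk⟩
    · exact Or.inr (Or.inl h)
  · -- the power of order 3
    obtain ⟨j, hj, hgj⟩ := (Nat.dvd_prime_pow Nat.prime_three).1 (orderOf_dvd_of_pow_eq_one hg)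
    have hj0 : j ≠ 0 := by
      rintro rfl
      rw [pow_zero] at hgj
      exact h1 (orderOf_eq_one_iff.1 hgj)
    obtain ⟨m, rfl⟩ := Nat.exists_eq_succ_of_ne_zero hj0
    have hx : orderOf (g ^ 3 ^ m) = 3 := by
      rw [orderOf_pow, hgj, pow_succ, Nat.gcd_eq_right (Dvd.intro _ rfl)]
      exact Nat.mul_div_cancel_left 3 (by positivity)
    have hle := card_cent_le (x := g) (y := g ^ 3 ^ m) (fun h hh => (show Commute h g from hh).pow_right _)
    by_cases hu : IsConj (g ^ 3 ^ m) uu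
    · left
      obtain ⟨k, hk⟩ := isConj_iff.1 hu
      refine ⟨k, ?_⟩
      rw [mem_centralizer_singleton_iff, ← hk]
      have e : Commute g (g ^ 3 ^ m) := Commute.self_pow g _
      calc k * g * k⁻¹ * (k * g ^ 3 ^ m * k⁻¹) = k * (g * g ^ 3 ^ m) * k⁻¹ := by group
        _ = k * (g ^ 3 ^ m * g) * k⁻¹ := by rw [e.eq]
        _ = _ := by group
    · have hco : ∀ a : ℕ, (Nat.card ↥(centralizer ({g} : Set Fi23))).Coprime (2 ^ a) := fun a =>
        (((Nat.Prime.coprime_iff_not_dvd Nat.prime_two).2 he).symm).pow_right a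
      rcases Cfsg.Agent.H199.NSmFi23.card_three hx with h4 | h4
      · have h5 := (hco 18).dvd_of_dvd_mul_left (hle.trans h4)
        exact Or.inr (Or.inr (Nat.le_of_dvd (by norm_num) h5))
      · have h5 := (hco 18).dvd_of_dvd_mul_left (hle.trans h4)
        obtain ⟨c, hc⟩ := h5
        have hc0 : c ≠ 0 := by
          rintro rfl
          rw [mul_zero] at hc
          exact absurd hc (by norm_num)
        by_cases h13 : 3 ^ 13 ∣ Nat.card ↥(centralizer ({g} : Set Fi23))
        · left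
          obtain ⟨Q, hQ⟩ := Sylow.exists_subgroup_card_pow_prime 3 h13
          have hQc : Nat.card ↥(Q.map (centralizer ({g} : Set Fi23)).subtype) = 3 ^ 13 := by
            rw [← hQ]
            exact Nat.card_congr (Q.equivMapOfInjective _ (Subgroup.subtype_injective _)).toEquiv.symm
          obtain ⟨k, hk⟩ := exists_conj_mem (p := 3) (n := 13) (Q.map (centralizer ({g} : Set Fi23)).subtype)
            (IsPGroup.of_card hQc) (by rw [hQc]) (by rw [card_G]; norm_num) (y := uu) (k := 1)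
            (by rw [pow_one]; exact uu_pow)
          obtain ⟨⟨y, hy⟩, -, hyk⟩ := hk
          change y = k * uu * k⁻¹ at hyk
          rw [hyk, mem_centralizer_singleton_iff] at hy
          refine ⟨k⁻¹, ?_⟩
          rw [mem_centralizer_singleton_iff]
          calc k⁻¹ * g * k⁻¹⁻¹ * uu = k⁻¹ * (g * (k * uu * k⁻¹)) * k := by group
            _ = k⁻¹ * (k * uu * k⁻¹ * g) * k := by rw [hy]
            _ = _ := by group
        · right; right
          have hc1 : c ≠ 1 := by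
            rintro rfl
            apply h13
            rw [mul_one] at hc
            rw [← hc]
            norm_num
          have h6 : 2 ≤ c := by omega
          have h7 : Nat.card ↥(centralizer ({g} : Set Fi23)) * 2 ≤ 39858075 := by
            rw [hc]
            exact Nat.mul_le_mul_left _ h6
          omega

/-! ### Elements of prime order at least five -/

theorem cent_zp {x : Fi23} : centralizer ((zpowers x : Subgroup Fi23) : Set Fi23) = centralizer ({x} : Set Fi23) := by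
  ext g
  rw [mem_centralizer_singleton_iff]
  constructor
  · intro h
    exact ((mem_centralizer_iff.1 h) x (mem_zpowers x)).symm
  · intro h
    rw [mem_centralizer_iff]
    rintro y ⟨i, rfl⟩
    exact ((show Commute g x from h).zpow_right i).symm.eq

theorem card_of_surj {A : Subgroup Fi23} {p n : ℕ} (f : ↥A →* Equiv.Perm (Fin n))
    (hf : Function.Surjective f) (hk : Nat.card f.ker = p) : Nat.card ↥A = n.factorial * p := by
  rw [← f.ker.index_mul_card, Subgroup.index_ker, MonoidHom.range_eq_top.2 hf, hk, Subgroup.card_top]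
  congr 1
  rw [Nat.card_eq_fintype_card, Fintype.card_perm, Fintype.card_fin]

open Cfsg.Agent.H839.Fi23 in
/-- `|C(y11)| ≤ 88` (as in `H468.PW.Fi23`) -/
theorem card_C11 : Nat.card ↥(centralizer (X11 : Set Fi23)) ≤ 88 := by
  by_cases h : ∃ w ∈ centralizer (X11 : Set Fi23), rho w 0 = 18119
  · obtain ⟨w, hw, hw0⟩ := h
    have h1 := index_two_pts (A := centralizer (X11 : Set Fi23))
      (fun w hw p hp => norm_fix (centralizer_le_normalizer _ hw) hp) hw hw0
    rw [Cfsg.Agent.H839.Count.card_of_index_two inf_le_left h1, card_C0]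
  · have h2 : centralizer (X11 : Set Fi23) ⊓ centralizer ({el .z} : Set Fi23) = centralizer (X11 : Set Fi23) := by
      rw [inf_eq_left]
      intro w hw
      rw [mem_cz]
      rcases norm_fix (centralizer_le_normalizer _ hw) (Or.inl rfl) with h1 | h1
      · exact h1
      · exact absurd ⟨w, hw, h1⟩ h
    rw [← h2, card_C0]
    norm_num

theorem card_cent_map (X : Subgroup Fi23) (g : Fi23) :
    Nat.card ↥(centralizer ((X.map (MulAut.conj g).toMonoidHom : Subgroup Fi23) : Set Fi23)) =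
      Nat.card ↥(centralizer (X : Set Fi23)) := by
  have h := Cfsg.Agent.H838.Transport.map_centralizer (MulAut.conj g) (X : Set Fi23)
  have h1 : ((X.map (MulAut.conj g).toMonoidHom : Subgroup Fi23) : Set Fi23) = (MulAut.conj g) '' (X : Set Fi23) := rfl
  rw [h1, ← h]
  exact (Nat.card_congr ((MulAut.conj g).subgroupMap _).toEquiv).symm

open Cfsg.Agent.H839.Fi23 in
theorem card_cent_prime {y : Fi23} {r : ℕ} (hr : r.Prime) (h5 : 5 ≤ r) (hy : orderOf y = r) :
    Nat.card ↥(centralizer ({y} : Set Fi23)) ≤ 25200 := by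
  have hd : r ∣ 4089470473293004800 := by
    rw [← card_G, ← hy]
    exact _root_.orderOf_dvd_natCard y
  have hz : Nat.card ↥(zpowers y) = r := by rw [Nat.card_zpowers, hy]
  rcases prime_cases hr h5 hd with rfl | rfl | rfl | rfl | rfl | rfl
  · obtain ⟨f, hf, hk⟩ := H870.IMFi23.exists_surj_elt hy (H838.Fi23.five_main (zpowers y) hz)
    exact (card_of_surj f hf hk).le
  · obtain ⟨f, hf, hk⟩ := H870.IMFi23.exists_surj_elt hy (H839.Fi23.seven_main (zpowers y) hz)
    rw [card_of_surj f hf hk]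
    decide
  · obtain ⟨g, hg⟩ := conj_all11 X11 (zpowers y) card_X11 hz
    rw [← cent_zp, ← hg, card_cent_map]
    exact card_C11.trans (by norm_num)
  · obtain ⟨f, hf, hk⟩ := H870.IMFi23.exists_surj_elt hy (H839.Fi23.thirteen_main (zpowers y) hz)
    rw [card_of_surj f hf hk]
    decide
  · rw [← cent_zp, (seventeen_main (zpowers y) hz).2, hz]
    norm_num
  · rw [← cent_zp, (twentythree_main (zpowers y) hz).2, hz]
    norm_num

/-! ### Elements of odd order -/

/-- **elements of odd order** -/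
theorem odd_cases {g : Fi23} (ho : Odd (orderOf g)) :
    (∃ k : Fi23, k * g * k⁻¹ ∈ centralizer ({uu} : Set Fi23)) ∨ SR g ∨
      Nat.card ↥(centralizer ({g} : Set Fi23)) ≤ 26867295 := by
  have hfin : Finite Fi23 := Cfsg.Agent.H199.NSmFi23.finite
  by_cases h : ∃ r : ℕ, r.Prime ∧ 5 ≤ r ∧ r ∣ orderOf g
  · obtain ⟨r, hr, h5, hd⟩ := h
    right; right
    obtain ⟨m, hm⟩ := hd
    have hm0 : m ≠ 0 := by
      rintro rfl
      rw [mul_zero] at hm
      exact (orderOf_pos g).ne' hm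
    have hx : orderOf (g ^ m) = r := by
      rw [orderOf_pow_of_dvd hm0 ⟨r, by rw [hm, mul_comm]⟩, hm]
      exact Nat.mul_div_cancel _ (Nat.pos_of_ne_zero hm0)
    have hle := card_cent_le (x := g) (y := g ^ m) (fun h hh => (show Commute h g from hh).pow_right _)
    have h1 := card_cent_prime hr h5 hx
    exact (Nat.le_of_dvd Nat.card_pos hle).trans (h1.trans (by norm_num))
  · have h1 : ∀ r : ℕ, r.Prime → r ∣ orderOf g → r = 3 := by
      intro r hr hd
      by_contra hne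
      apply h
      refine ⟨r, hr, ?_, hd⟩
      have h2 : r ≠ 2 := by
        rintro rfl
        exact (Nat.not_even_iff_odd.2 ho) (even_iff_two_dvd.2 hd)
      have h4 : r ≠ 4 := by
        rintro rfl
        exact absurd hr (by norm_num)
      have := hr.two_le
      omega
    have h2 : orderOf g = 3 ^ (orderOf g).primeFactorsList.length := by
      refine Nat.eq_prime_pow_of_unique_prime_dvd (orderOf_pos g).ne' ?_
      intro d hd hdd
      exact h1 d hd hdd
    refine three_cases (n := (orderOf g).primeFactorsList.length) ?_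
    rw [← h2]
    exact pow_orderOf_eq_one g

/-- **row `Fi23` of S2443, elements of odd order** -/
theorem isC_odd (hS : ∀ g : Fi23, Nat.card ↥(centralizer ({g} : Set Fi23)) ≤ 26867295 → IsC g) {g : Fi23}
    (ho : Odd (orderOf g)) : IsC g := by
  rcases odd_cases ho with ⟨k, hk⟩ | h | h
  · exact IsC.of_conj k (isC_uu hk)
  · exact h.isC ho
  · exact hS g h

/-- **row `Fi23` of S4171, elements of odd order** -/
theorem i4_odd (hS : ∀ g : Fi23, Nat.card ↥(centralizer ({g} : Set Fi23)) ≤ 26867295 → I4 g) {g : Fi23}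
    (ho : Odd (orderOf g)) : I4 g := by
  rcases odd_cases ho with ⟨k, hk⟩ | h | h
  · exact I4.conj' k (i4_uu hk)
  · exact h.i4
  · exact hS g h

end Cfsg.Agent.H29.Ore.Fi
end
end

-- part: H822/Ore/Fi23Asm
section
set_option linter.all false

/-!
# The rows `Fi23` of S2443 and S4171, given the bounds for 2A and 2C and the sieve (helper822)
-/

set_option autoImplicit false

namespace Cfsg.Agent.H822.Ore.Fi23Asm

open Cfsg Subgroup Cfsg.Agent.KFacts.FiTTh.BasDef
open Cfsg.Agent.KFacts.FiTTh.BasFi (e)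
open Cfsg.Agent.H511.Ore Cfsg.Agent.H777.Ore Cfsg.Agent.H822.Ore.Fi23Row Cfsg.Agent.H822.Ore.Fi23Frame
open Cfsg.Agent.Fischer.Fi23Z (z0)
open Cfsg.Spor (Fi23)

/-- **the commutator row** -/
theorem all_comm (hA : Bd z0) {r r' r'' : ZMod 23} (h1 : r ≠ r') (h2 : r ≠ r'') (h3 : r' ≠ r'')
    (hC : Bd (e (some r) * e (some r') * e (some r''))) (t1 : T1 Fi23 39191040) : AllC Fi23 :=
  frame (fun _ hz hz1 => bd_of hA h1 h2 h3 hC hz hz1)
    (fun _ hp hp5 _ hs => (Cfsg.Agent.H29.Ore.Fi.card_cent_prime hp hp5 hs).trans (by norm_num)) t1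
    (fun _ _ hg => Cfsg.Agent.H822.Ore.Fi23Two.two_comm hg)
    (fun _ ho => Cfsg.Agent.H29.Ore.Fi.isC_odd (fun g hg => t1 g (hg.trans (by norm_num))) ho)

/-- **the row of the products of four involutions** -/
theorem all_four (hA : Bd z0) {r r' r'' : ZMod 23} (h1 : r ≠ r') (h2 : r ≠ r'') (h3 : r' ≠ r'')
    (hC : Bd (e (some r) * e (some r') * e (some r'')))
    (t1 : ∀ g : Fi23, Nat.card (centralizer ({g} : Set Fi23)) ≤ 39191040 → I4 g) : Inv4 Fi23 :=
  frame (fun _ hz hz1 => bd_of hA h1 h2 h3 hC hz hz1)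
    (fun _ hp hp5 _ hs => (Cfsg.Agent.H29.Ore.Fi.card_cent_prime hp hp5 hs).trans (by norm_num)) t1
    (fun _ _ hg => Cfsg.Agent.H822.Ore.Fi23Four.two_four hg)
    (fun _ ho => Cfsg.Agent.H29.Ore.Fi.i4_odd (fun g hg => t1 g (hg.trans (by norm_num))) ho)

end Cfsg.Agent.H822.Ore.Fi23Asm
end

-- part: H868/Ore/Fi23A
section
set_option linter.all false
open scoped Cfsg.Agent.FastGrp

/-!
# `Fi23`: `|C(a) ∩ C(s)| ≤ 39191040` for a transposition `a` and `s` of order three (helper868, for S2443)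
-/

set_option autoImplicit false

namespace Cfsg.Agent.H868.Ore.Fi23A

open Cfsg Subgroup
open Cfsg.Agent.R01.Lifts (Ext)
open Cfsg.Spor (Fi23)

theorem finite_fi23 : Finite Fi23 :=
  Nat.finite_of_card_ne_zero (by rw [Cfsg.Agent.Fischer.Fi23Simple.card_Fi23]; norm_num)

theorem finite_fi22 : Finite Spor.Fi22 :=
  Nat.finite_of_card_ne_zero (by rw [Cfsg.Agent.Fischer.Fi22Order.card_fi22]; norm_num)

/-- centralizers in a group with a homomorphism whose kernel has at most two elements -/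
theorem card_le_of_ker {C U : Type*} [Group C] [Group U] [Finite C] [Finite U] (π : C →* U) {z : C}
    (h : ∀ c, π c = 1 → c = 1 ∨ c = z) (s : C) :
    Nat.card (centralizer ({s} : Set C)) ≤ 2 * Nat.card (centralizer ({π s} : Set U)) := by
  classical
  let f : centralizer ({s} : Set C) →* centralizer ({π s} : Set U) :=
    (π.comp (Subgroup.subtype _)).codRestrict _ (by
      intro c
      rw [mem_centralizer_singleton_iff]
      show π (c : C) * π s = π s * π (c : C)
      rw [← map_mul, ← map_mul, mem_centralizer_singleton_iff.1 c.2])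
  have hker : Nat.card f.ker ≤ 2 := by
    have h1 : Nat.card f.ker ≤ Nat.card ({1, z} : Set C) := by
      refine Nat.card_le_card_of_injective (fun a : f.ker => (⟨((a : centralizer ({s} : Set C)) : C), ?_⟩ : ({1, z} : Set C))) ?_
      · have h2 : f (a : centralizer ({s} : Set C)) = 1 := MonoidHom.mem_ker.1 a.2
        exact h _ (congrArg Subtype.val h2)
      · intro a b hab
        have h1 : ((a : centralizer ({s} : Set C)) : C) = ((b : centralizer ({s} : Set C)) : C) :=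
          congrArg (Subtype.val : ({1, z} : Set C) → C) hab
        exact Subtype.ext (Subtype.ext h1)
    refine h1.trans ?_
    rw [Nat.card_coe_set_eq]
    exact (Set.ncard_insert_le 1 {z}).trans (by rw [Set.ncard_singleton])
  rw [← Subgroup.card_mul_index f.ker, Subgroup.index_ker]
  exact Nat.mul_le_mul hker (Subgroup.card_le_card_group f.range)

/-- the image of an element of order three -/
theorem orderOf_three {C U : Type*} [Group C] [Group U] (π : C →* U) {z : C} (hz : z * z = 1)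
    (h : ∀ c, π c = 1 → c = 1 ∨ c = z) {s : C} (hs : orderOf s = 3) : orderOf (π s) = 3 := by
  refine orderOf_eq_prime (p := 3) ?_ ?_
  · rw [← map_pow, ← hs, pow_orderOf_eq_one, map_one]
  · intro h1
    rcases h s h1 with h2 | h2
    · rw [h2, orderOf_one] at hs
      norm_num at hs
    · have h3 : s ^ 2 = 1 := by rw [h2, pow_two, hz]
      have h4 := orderOf_dvd_of_pow_eq_one h3
      rw [hs] at h4
      norm_num at h4

/-- the abstract form -/
theorem bd_abs {G : Type*} [Group G] [Finite G] {z : G} (π : centralizer ({z} : Set G) →* Spor.Fi22) (hzz : z * z = 1)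
    (hker : ∀ c, π c = 1 → c = 1 ∨ (c : G) = z) {s : G} (hs : orderOf s = 3) (hsz : s * z = z * s) :
    Nat.card (centralizer ({z, s} : Set G)) ≤ 39191040 := by
  have hfin2 : Finite Spor.Fi22 := finite_fi22
  let s' : centralizer ({z} : Set G) := ⟨s, mem_centralizer_singleton_iff.2 hsz⟩
  let z' : centralizer ({z} : Set G) := ⟨z, mem_centralizer_singleton_iff.2 rfl⟩
  have hs' : orderOf s' = 3 := by rw [Subgroup.orderOf_mk, hs]
  have hk : ∀ c, π c = 1 → c = 1 ∨ c = z' := fun c hc => (hker c hc).imp id fun h => Subtype.ext h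
  have h1 : Nat.card (centralizer ({z, s} : Set G)) ≤ Nat.card (centralizer ({s'} : Set (centralizer ({z} : Set G)))) := by
    refine Nat.card_le_card_of_injective (fun x => ⟨⟨x, ?_⟩, ?_⟩) ?_
    · exact mem_centralizer_singleton_iff.2 ((mem_centralizer_iff.1 x.2) z (Or.inl rfl)).symm
    · exact mem_centralizer_singleton_iff.2 (Subtype.ext ((mem_centralizer_iff.1 x.2) s (Or.inr rfl)).symm)
    · intro a b hab
      exact Subtype.ext (congrArg (fun y : centralizer ({s'} : Set (centralizer ({z} : Set G))) => ((y : centralizer ({z} : Set G)) : G)) hab)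
  have h2 := card_le_of_ker π hk s'
  have h3 := H759.Ore.Fi22Cent.card_le (MulEquiv.refl Spor.Fi22) (orderOf_three π (Subtype.ext hzz) hk hs')
  have h4 := h1.trans h2
  omega

theorem bd_ext {G : Type*} [Group G] [Finite G] {z : G} {π : centralizer ({z} : Set G) →* Spor.Fi22}
    (hE : Ext π (R01.Start.zel z)) {s : G} (hs : orderOf s = 3) (hsz : s * z = z * s) :
    Nat.card (centralizer ({z, s} : Set G)) ≤ 39191040 :=
  bd_abs π (congrArg Subtype.val hE.zz) (fun c hc => ((hE.ker c).1 hc).imp id fun h => congrArg Subtype.val h) hs hsz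

/-- transport -/
theorem bd_equiv {Y : Type} [Group Y] [Finite Y] (e : Y ≃* Spor.Fi23) {x s : Y} (hx : e x = Cfsg.Agent.Fischer.Fi23Z.z0)
    (hs : orderOf s = 3) (hsx : s * x = x * s) : Nat.card (centralizer ({x, s} : Set Y)) ≤ 39191040 := by
  obtain ⟨π, hE, -⟩ := H830.Parts.ext23 e
  have h1 : e.symm Cfsg.Agent.Fischer.Fi23Z.z0 = x := by rw [← hx, MulEquiv.symm_apply_apply]
  rw [← h1] at hsx ⊢
  exact bd_ext hE hs hsx

/-- **the transposition `z0`** (`H822.Ore.Fi23Row.Bd z0`) -/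
theorem bd_z0 (s : Fi23) (hs : orderOf s = 3) (hsz : s * Cfsg.Agent.Fischer.Fi23Z.z0 = Cfsg.Agent.Fischer.Fi23Z.z0 * s) :
    Nat.card (centralizer ({Cfsg.Agent.Fischer.Fi23Z.z0, s} : Set Fi23)) ≤ 39191040 := by
  have hfin := finite_fi23
  exact bd_equiv (MulEquiv.refl Fi23) (MulEquiv.refl_apply _) hs hsz

end Cfsg.Agent.H868.Ore.Fi23A
end

-- part: H854/Ore/J4Four
section
prune_inst 0x10000000000000
set_option linter.all false
open scoped Cfsg.Agent.FastGrp

-- part: H854/Ore/LinExt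
section
/-!
# Identities between xor-additive functions are checked on the powers of two (helper129, memory of the kernel)
-/

set_option autoImplicit false

namespace Cfsg.Agent.H854.Ore.LinExt

open Cfsg.Agent.J4.Beta

/-- additive for xor -/
def XAdd (f : ℕ → ℕ) : Prop := ∀ v w, f (v ^^^ w) = f v ^^^ f w

theorem XAdd.lin (A : List ℕ) : XAdd (lin A) := by
  intro v w
  induction A generalizing v w with
  | nil => rw [lin_nil, lin_nil, lin_nil]; rfl
  | cons a A ih =>
    rw [lin_cons, lin_cons, lin_cons, xor_div_two, ih, xor_mod_two]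
    by_cases h1 : v % 2 = 1 <;> by_cases h2 : w % 2 = 1
    · have h3 : ¬ (v % 2 + w % 2) % 2 = 1 := by omega
      rw [if_pos h1, if_pos h2, if_neg h3, Nat.xor_comm a (J4.Beta.lin A (w / 2)), ← Nat.xor_assoc,
        Nat.xor_assoc a, Nat.xor_comm a, Nat.xor_assoc, Nat.xor_self, Nat.xor_zero]
    · have h3 : (v % 2 + w % 2) % 2 = 1 := by omega
      rw [if_pos h1, if_neg h2, if_pos h3, Nat.xor_assoc]
    · have h3 : (v % 2 + w % 2) % 2 = 1 := by omega
      rw [if_neg h1, if_pos h2, if_pos h3, ← Nat.xor_assoc, ← Nat.xor_assoc, Nat.xor_comm a]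
    · have h3 : ¬ (v % 2 + w % 2) % 2 = 1 := by omega
      rw [if_neg h1, if_neg h2, if_neg h3]

theorem XAdd.id : XAdd (fun v => v) := fun _ _ => rfl

theorem XAdd.comp {f g : ℕ → ℕ} (hf : XAdd f) (hg : XAdd g) : XAdd (fun v => f (g v)) := by
  intro v w
  show f (g (v ^^^ w)) = _
  rw [hg, hf]

theorem XAdd.xor {f g : ℕ → ℕ} (hf : XAdd f) (hg : XAdd g) : XAdd (fun v => Nat.xor (f v) (g v)) := by
  intro v w
  show f (v ^^^ w) ^^^ g (v ^^^ w) = (f v ^^^ g v) ^^^ (f w ^^^ g w)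
  rw [hf, hg]
  simp only [Nat.xor_comm, Nat.xor_left_comm]

theorem two_pow_xor {n w : ℕ} (hw : w < 2 ^ n) : 2 ^ n ^^^ w = 2 ^ n + w := by
  have h1 : (2 ^ n ^^^ w) / 2 ^ n = 1 := by
    rw [Nat.xor_div_two_pow, Nat.div_self (Nat.two_pow_pos n), Nat.div_eq_of_lt hw]; rfl
  have h2 : (2 ^ n ^^^ w) % 2 ^ n = w := by
    rw [Nat.xor_mod_two_pow, Nat.mod_self, Nat.zero_xor, Nat.mod_eq_of_lt hw]
  have h3 := Nat.div_add_mod (2 ^ n ^^^ w) (2 ^ n)
  rw [h1, h2] at h3
  omega

/-- two additive functions which agree on the powers of two -/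
theorem XAdd.ext {f g : ℕ → ℕ} (hf : XAdd f) (hg : XAdd g) {n : ℕ} (h : ∀ i < n, f (2 ^ i) = g (2 ^ i)) :
    ∀ v < 2 ^ n, f v = g v := by
  induction n with
  | zero =>
    intro v hv
    have h0 : v = 0 := by omega
    have e1 := hf 0 0
    have e2 := hg 0 0
    rw [Nat.xor_self] at e1 e2
    rw [Nat.xor_self] at e1 e2
    rw [h0, e1, e2]
  | succ n ih =>
    intro v hv
    have ih := ih (fun i hi => h i (by omega))
    by_cases hlt : v < 2 ^ n
    · exact ih v hlt
    · have hw : v - 2 ^ n < 2 ^ n := by rw [pow_succ] at hv; omega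
      have hd : v = 2 ^ n ^^^ (v - 2 ^ n) := by rw [two_pow_xor hw]; omega
      rw [hd, hf, hg, h n (by omega), ih _ hw]

end Cfsg.Agent.H854.Ore.LinExt
end

-- part: H854/Ore/J4Four
section
/-!
# `J4`: every element is a product of four elements with square one (S4171) (helper854)
-/

set_option autoImplicit false

open Cfsg
open Cfsg.Agent.H854.JM

namespace Cfsg.Agent.H854.Ore

open Cfsg.Agent.H860.Act Cfsg.Agent.H860.Orb Cfsg.Agent.H860.TwoElem
open Cfsg.Agent.J4.ClassesAbs (Hyp exists_mul_of_mem_sup)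
open Cfsg.Agent.J4.Beta Cfsg.Agent.J4.M24Hom
open Cfsg.Agent.SporadicStructure.M24El Cfsg.Agent.SporadicA.GolayPerm
open Cfsg.Agent.H860.Two24 Cfsg.Agent.H860.Two24Data
open Cfsg.Agent.J4.Rep112 (rho)
open Cfsg.Agent.H777.Ore

/-- the involutions `t1` -/
def tT1 : List ℕ := [959854378970382820114445638170249266, 760809890523349869123231928395934988, 384884597871084125554036668121875531, 640702687920836906763276980468269317, 521366414552910786153029034648536137, 415687454390851371917420043296640214, 433851538216755427168869970468975617]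

/-- the involutions `t2` -/
def tT2 : List ℕ := [459084066422389376177319864418506432, 726169335499507506439770824863090816, 320115590329072388348402571430434817, 251960827057229500601771245657840240, 521366414552910786153029034648536137, 402005540605198069802445166374683717, 901822377659586917590841279842881571]

/-- the involutions `t3` -/
def tT3 : List ℕ := [959854378970382820114445638170249266, 569252781265229289329669654509092898, 961899110541814789908658388543678741, 132941620994835479617715115405317264, 387095554345892207672472776726391856, 690021148873038791074896445647135950, 647802026470210008058013314647734953]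

/-- the involutions `t4` -/
def tT4 : List ℕ := [499094861663243689451700324206158966, 139645724156740834627360971196967536, 589386951847630982291847252009991851, 606813812919849241793266744067496961, 486340593181737048748086938927844393, 152787951465653389924420534250749125, 716805247544945156181784710966422019]

/-- the choice of `v1` -/
def tV1 : List (List ℕ) := [[457, 1707, 1966, 1954, 275, 488, 488, 296, 1890, 608, 1227], [1, 1346, 1348, 1709, 1667, 1669, 855, 1555, 1388, 1000, 1595], [1234, 1667, 478, 1958, 1988, 373, 1940, 1065, 1372, 1747, 1576], [576, 741, 691, 88, 809, 663, 809, 705, 719, 361, 536], [5, 187, 0, 177, 20, 177, 27, 17, 347, 15, 1551], [293, 104, 1303, 220, 1407, 54, 130, 234, 1313, 856, 275], [1991, 571, 696, 1998, 340, 1630, 1795, 1407, 1467, 1795, 71]]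

/-- the choice of `v2` -/
def tV2 : List (List ℕ) := [[32, 35, 63, 63, 28, 32, 90, 90, 31, 122, 60], [0, 44, 44, 14, 1365, 14, 1324, 1365, 262, 383, 1030], [170, 2, 1158, 1437, 1463, 1461, 1463, 128, 409, 170, 130], [358, 1120, 1126, 6, 303, 1126, 297, 358, 1071, 297, 303], [0, 0, 0, 0, 0, 0, 0, 0, 0, 0, 0], [1302, 545, 529, 1928, 1184, 1168, 792, 545, 919, 935, 529], [341, 411, 135, 341, 147, 381, 73, 206, 93, 117, 230]]

/-- the choice of `v3` -/
def tV3 : List (List ℕ) := [[0, 0, 0, 0, 0, 0, 0, 0, 0, 0, 0], [0, 0, 0, 0, 0, 0, 0, 0, 0, 0, 0], [0, 0, 0, 0, 0, 0, 0, 0, 0, 0, 0], [0, 12, 12, 0, 0, 12, 0, 0, 12, 0, 12], [4, 185, 4, 185, 4, 145, 91, 145, 91, 527, 527], [0, 0, 0, 0, 0, 0, 0, 0, 0, 0, 0], [0, 0, 0, 0, 0, 0, 0, 0, 0, 0, 0]]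

/-- the choice of `v4` -/
def tV4 : List (List ℕ) := [[0, 0, 0, 0, 0, 0, 0, 0, 0, 0, 0], [0, 0, 0, 0, 0, 0, 0, 0, 0, 0, 0], [0, 0, 0, 0, 0, 0, 0, 0, 0, 0, 0], [0, 0, 0, 0, 0, 0, 0, 0, 0, 0, 0], [0, 0, 0, 0, 0, 0, 0, 0, 0, 0, 0], [0, 0, 0, 0, 0, 0, 0, 0, 0, 0, 0], [0, 0, 0, 0, 0, 0, 0, 0, 0, 0, 0]]

/-- check of the elements -/
def chkI (a b c d m : ℕ) : Bool :=
  (ok a && ok b && ok c && ok d) && (Nat.beq (pcomp a a) idP && Nat.beq (pcomp b b) idP && Nat.beq (pcomp c c) idP &&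
    Nat.beq (pcomp d d) idP) && Nat.beq (pcomp (pcomp (pcomp a b) c) d) m

/-- check of the vectors -/
def chkW (A B C D P2 P3 X Y Z W : List ℕ) : Bool :=
  (List.range 2048).all fun v => (Nat.beq (lin A (lin X v)) (lin X v) && Nat.beq (lin B (lin Y v)) (lin Y v)) &&
    (Nat.beq (lin C (lin Z v)) (lin Z v) && Nat.beq (lin D (lin W v)) (lin W v)) &&
    Nat.beq v (Nat.xor (Nat.xor (lin X v) (lin A (lin Y v))) (Nat.xor (lin P2 (lin Z v)) (lin P3 (lin W v))))

theorem chkI_all : ∀ j < 7, chkI (tT1.getD j idP) (tT2.getD j idP) (tT3.getD j idP) (tT4.getD j idP)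
    (rp.getD j idP) = true := by decide +kernel

/-- check of the vectors, on the powers of two -/
def chkWb (A B C D P2 P3 X Y Z W : List ℕ) : Bool :=
  (List.range 11).all fun i => (Nat.beq (lin A (lin X (2 ^ i))) (lin X (2 ^ i)) &&
      Nat.beq (lin B (lin Y (2 ^ i))) (lin Y (2 ^ i))) &&
    (Nat.beq (lin C (lin Z (2 ^ i))) (lin Z (2 ^ i)) && Nat.beq (lin D (lin W (2 ^ i))) (lin W (2 ^ i))) &&
    Nat.beq (2 ^ i) (Nat.xor (Nat.xor (lin X (2 ^ i)) (lin A (lin Y (2 ^ i))))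
      (Nat.xor (lin P2 (lin Z (2 ^ i))) (lin P3 (lin W (2 ^ i)))))

open LinExt in
theorem chkW_of_chkWb {A B C D P2 P3 X Y Z W : List ℕ} (h : chkWb A B C D P2 P3 X Y Z W = true) :
    chkW A B C D P2 P3 X Y Z W = true := by
  have key : ∀ i < 11, lin A (lin X (2 ^ i)) = lin X (2 ^ i) ∧ lin B (lin Y (2 ^ i)) = lin Y (2 ^ i) ∧
      lin C (lin Z (2 ^ i)) = lin Z (2 ^ i) ∧ lin D (lin W (2 ^ i)) = lin W (2 ^ i) ∧
      2 ^ i = Nat.xor (Nat.xor (lin X (2 ^ i)) (lin A (lin Y (2 ^ i))))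
        (Nat.xor (lin P2 (lin Z (2 ^ i))) (lin P3 (lin W (2 ^ i)))) := by
    intro i hi
    have := List.all_eq_true.1 h i (List.mem_range.2 hi)
    simp only [Bool.and_eq_true] at this
    obtain ⟨⟨⟨w1, w2⟩, w3, w4⟩, hV⟩ := this
    exact ⟨Nat.eq_of_beq_eq_true w1, Nat.eq_of_beq_eq_true w2, Nat.eq_of_beq_eq_true w3, Nat.eq_of_beq_eq_true w4,
      Nat.eq_of_beq_eq_true hV⟩
  have b : ∀ {a c : ℕ}, a = c → Nat.beq a c = true := fun h => by rw [h]; exact Nat.beq_refl _
  refine List.all_eq_true.2 fun v hv => ?_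
  have hv : v < 2 ^ 11 := List.mem_range.1 hv
  simp only [Bool.and_eq_true]
  refine ⟨⟨⟨b ?_, b ?_⟩, b ?_, b ?_⟩, b ?_⟩
  · exact XAdd.ext ((XAdd.lin A).comp (XAdd.lin X)) (XAdd.lin X) (fun i hi => (key i hi).1) v hv
  · exact XAdd.ext ((XAdd.lin B).comp (XAdd.lin Y)) (XAdd.lin Y) (fun i hi => (key i hi).2.1) v hv
  · exact XAdd.ext ((XAdd.lin C).comp (XAdd.lin Z)) (XAdd.lin Z) (fun i hi => (key i hi).2.2.1) v hv
  · exact XAdd.ext ((XAdd.lin D).comp (XAdd.lin W)) (XAdd.lin W) (fun i hi => (key i hi).2.2.2.1) v hv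
  · exact XAdd.ext XAdd.id (((XAdd.lin X).xor ((XAdd.lin A).comp (XAdd.lin Y))).xor
      (((XAdd.lin P2).comp (XAdd.lin Z)).xor ((XAdd.lin P3).comp (XAdd.lin W))))
      (fun i hi => (key i hi).2.2.2.2) v hv

theorem chkWb_all : ∀ j < 7, chkWb (AP (tT1.getD j idP)) (AP (tT2.getD j idP)) (AP (tT3.getD j idP)) (AP (tT4.getD j idP))
    (AP (pcomp (tT1.getD j idP) (tT2.getD j idP))) (AP (pcomp (pcomp (tT1.getD j idP) (tT2.getD j idP)) (tT3.getD j idP)))
    (tV1.getD j []) (tV2.getD j []) (tV3.getD j []) (tV4.getD j []) = true := by decide +kernel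

theorem chkW_all : ∀ j < 7, chkW (AP (tT1.getD j idP)) (AP (tT2.getD j idP)) (AP (tT3.getD j idP)) (AP (tT4.getD j idP))
    (AP (pcomp (tT1.getD j idP) (tT2.getD j idP))) (AP (pcomp (pcomp (tT1.getD j idP) (tT2.getD j idP)) (tT3.getD j idP)))
    (tV1.getD j []) (tV2.getD j []) (tV3.getD j []) (tV4.getD j []) = true :=
  fun j hj => chkW_of_chkWb (chkWb_all j hj)

section

variable {G : Type*} [Group G] {R : Subgroup G} {l : List G} {phi : M24 →* G}

/-- a product of four elements of `R` with square one -/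
def I4R (R : Subgroup G) (g : G) : Prop :=
  ∃ a ∈ R, ∃ b ∈ R, ∃ c ∈ R, ∃ d ∈ R, a * a = 1 ∧ b * b = 1 ∧ c * c = 1 ∧ d * d = 1 ∧ g = a * b * c * d

/-- the coset `2^11 m` consists of products of four involutions -/
theorem coset_four (H : Hyp R l phi) {j : ℕ} (hj : j < 7) {v : ℕ} (hv : v < 2048) :
    I4R R (J4.Beta.beta l v * phi (el (rp.getD j idP))) := by
  have hE := chkI_all j hj
  unfold chkI at hE
  simp only [Bool.and_eq_true] at hE
  obtain ⟨⟨⟨⟨⟨hA, hB⟩, hC⟩, hD⟩, ⟨⟨⟨a2, b2⟩, c2⟩, d2⟩⟩, hM⟩ := hE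
  have hW := List.all_eq_true.1 (chkW_all j hj) v (List.mem_range.2 hv)
  simp only [Bool.and_eq_true] at hW
  obtain ⟨⟨⟨w1, w2⟩, w3, w4⟩, hV⟩ := hW
  have w1 := Nat.eq_of_beq_eq_true w1
  have w2 := Nat.eq_of_beq_eq_true w2
  have w3 := Nat.eq_of_beq_eq_true w3
  have w4 := Nat.eq_of_beq_eq_true w4
  have hV := Nat.eq_of_beq_eq_true hV
  generalize tT1.getD j idP = A at *
  generalize tT2.getD j idP = B at *
  generalize tT3.getD j idP = C at *
  generalize tT4.getD j idP = D at *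
  generalize rp.getD j idP = M at *
  have hAB := ok_pcomp hA hB
  have hABC := ok_pcomp hAB hC
  have a2 := congrArg el (Nat.eq_of_beq_eq_true a2)
  have b2 := congrArg el (Nat.eq_of_beq_eq_true b2)
  have c2 := congrArg el (Nat.eq_of_beq_eq_true c2)
  have d2 := congrArg el (Nat.eq_of_beq_eq_true d2)
  have hM := congrArg el (Nat.eq_of_beq_eq_true hM)
  rw [el_pcomp hA hA, el_idP] at a2
  rw [el_pcomp hB hB, el_idP] at b2
  rw [el_pcomp hC hC, el_idP] at c2
  rw [el_pcomp hD hD, el_idP] at d2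
  have e2 := act_el H hAB (lin (tV3.getD j []) v)
  have e3 := act_el H hABC (lin (tV4.getD j []) v)
  rw [el_pcomp hABC hD] at hM
  rw [el_pcomp hAB hC] at hM e3
  rw [el_pcomp hA hB] at hM e2 e3
  have f1 := act_el H hA (lin (tV1.getD j []) v)
  have f2 := act_el H hB (lin (tV2.getD j []) v)
  have f3 := act_el H hC (lin (tV3.getD j []) v)
  have f4 := act_el H hD (lin (tV4.getD j []) v)
  have e1 := act_el H hA (lin (tV2.getD j []) v)
  rw [w1] at f1
  rw [w2] at f2
  rw [w3] at f3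
  rw [w4] at f4
  generalize lin (tV1.getD j []) v = x at *
  generalize lin (tV2.getD j []) v = y at *
  generalize lin (tV3.getD j []) v = z at *
  generalize lin (tV4.getD j []) v = w at *
  have bx := beta_xor l H.sq H.comm
  have bsq : ∀ w, J4.Beta.beta l w * J4.Beta.beta l w = 1 := fun w => by rw [← bx, Nat.xor_self, beta_zero]
  have e : J4.Beta.beta l v = J4.Beta.beta l x * J4.Beta.beta l (lin (AP A) y) * (J4.Beta.beta l (lin (AP (pcomp A B)) z) *
      J4.Beta.beta l (lin (AP (pcomp (pcomp A B) C)) w)) := by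
    conv_lhs => rw [hV]
    exact (bx _ _).trans (by rw [show Nat.xor x (lin (AP A) y) = x ^^^ lin (AP A) y from rfl,
      show Nat.xor (lin (AP (pcomp A B)) z) (lin (AP (pcomp (pcomp A B) C)) w) =
        lin (AP (pcomp A B)) z ^^^ lin (AP (pcomp (pcomp A B) C)) w from rfl, bx, bx])
  have sq : ∀ (τ : M24) (u : ℕ), τ * τ = 1 → phi τ * J4.Beta.beta l u * (phi τ)⁻¹ = J4.Beta.beta l u →
      J4.Beta.beta l u * phi τ * (J4.Beta.beta l u * phi τ) = 1 := by
    intro τ u h1 h2
    have h3 : phi τ * phi τ = 1 := by rw [← map_mul, h1, map_one]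
    calc J4.Beta.beta l u * phi τ * (J4.Beta.beta l u * phi τ)
        = J4.Beta.beta l u * (phi τ * J4.Beta.beta l u * (phi τ)⁻¹) * (phi τ * phi τ) := by group
      _ = 1 := by rw [h2, h3, bsq, one_mul]
  have mem : ∀ (u : ℕ) (τ : M24), J4.Beta.beta l u * phi τ ∈ R := fun u τ =>
    R.mul_mem (beta_mem R l H.mem u) (H.le ⟨_, rfl⟩)
  refine ⟨_, mem x (el A), _, mem y (el B), _, mem z (el C), _, mem w (el D), sq _ _ a2 f1, sq _ _ b2 f2,
    sq _ _ c2 f3, sq _ _ d2 f4, ?_⟩
  rw [e, ← e1, ← e2, ← e3, ← hM]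
  simp only [map_mul]
  group

theorem two_four_abs [Finite G] (H : Hyp R l phi)
    (hodd : ¬ 2 ∣ ((Subgroup.closure {q | q ∈ l} ⊔ phi.range).subgroupOf R).index)
    (u : G) (huR : u ∈ R) {n : ℕ} (hu : u ^ 2 ^ n = 1) : I4R R u := by
  obtain ⟨j, hj, v, hv, x, hx, h3⟩ := exists_coset H hodd u huR hu
  obtain ⟨a, ha, b, hb, c, hc, d, hd, a2, b2, c2, d2, h⟩ := coset_four H hj hv
  have key : ∀ y ∈ R, x⁻¹ * y * x ∈ R := fun y hy => R.mul_mem (R.mul_mem (R.inv_mem hx) hy) hx
  have sq : ∀ y : G, y * y = 1 → x⁻¹ * y * x * (x⁻¹ * y * x) = 1 := fun y hy => by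
    calc x⁻¹ * y * x * (x⁻¹ * y * x) = x⁻¹ * (y * y) * x := by group
      _ = 1 := by rw [hy]; group
  refine ⟨_, key a ha, _, key b hb, _, key c hc, _, key d hd, sq a a2, sq b b2, sq c c2, sq d d2, ?_⟩
  have h4 : u = x⁻¹ * (a * b * c * d) * x := by rw [← h, ← h3]; group
  rw [h4]; group

end

/-- every 2-element of `Spor.J4` is a product of four elements with square one -/
theorem two_four {g : Cfsg.Spor.J4} {n : ℕ} (hg : g ^ 2 ^ n = 1) : I4 g := by
  obtain ⟨_, ⟨a, rfl⟩, _, ⟨b, rfl⟩, _, ⟨c, rfl⟩, _, ⟨d, rfl⟩, a2, b2, c2, d2, h⟩ :=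
    two_four_abs J4.Classes.hyp odd_index (rho g) ⟨g, rfl⟩ (n := n) (by rw [← map_pow, hg, map_one])
  have inj := H858.VK.rho_injective
  refine ⟨a, b, c, d, inj ?_, inj ?_, inj ?_, inj ?_, inj ?_⟩
  · rw [map_mul, a2, map_one]
  · rw [map_mul, b2, map_one]
  · rw [map_mul, c2, map_one]
  · rw [map_mul, d2, map_one]
  · rw [h]; simp only [map_mul]

theorem sr_43 : ∀ x : Cfsg.Spor.J4, orderOf x = 43 → SR x := by
  intro x hx
  have hfin : Finite Cfsg.Spor.J4 := H858.FixJ4.facts.1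
  have : Fact (Nat.Prime 43) := ⟨by norm_num⟩
  obtain ⟨h1, h2⟩ := H859.BigNum.data43 (P := Subgroup.zpowers x) (by rw [Nat.card_zpowers, hx])
  refine invert_of_card (p := 43) (by norm_num) hx (by rw [← cent_zpowers, h1]) ?_
  rw [h2]; norm_num

/-- **`J4`, products of four involutions** -/
theorem four_J4 {S : Type*} [Group S] (h : Spor.IsoJ4 S) : Inv4 S := by
  obtain ⟨e⟩ := h
  have key : Inv4 Cfsg.Spor.J4 := by
    intro g
    by_cases hg : ∃ p : ℕ, p.Prime ∧ p ≠ 2 ∧ p ∣ orderOf g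
    · obtain ⟨p, hp, h2, hd⟩ := hg
      have := simple_J
      have hfin : Finite Cfsg.Spor.J4 := H858.FixJ4.facts.1
      exact i4_of_data noncomm_J 86775571046077562880 card'' LJ hL hLN cdJ hcd hasJ (m := 2) (D := 100000) (ex := [])
        (fun χ h => H511.Ore.two_le_charDegree noncomm_J χ h) (fun χ => List.not_mem_nil)
        ⟨43, 1, 14, 3, [(0, 0), (1, 3), (14, -1), (29, 1), (42, -3)], 3, true⟩ (by simp [cdJ]) rfl hdiv sr_43 2661120
        (by norm_num [H511.Ore.s4]) (cent_le hp h2 hd)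
    · push Not at hg
      obtain ⟨n, hn⟩ := two_pow_of g hg
      exact two_four (n := n) (by rw [← hn]; exact pow_orderOf_eq_one g)
  intro s
  obtain ⟨a, b, c, d, a2, b2, c2, d2, hab⟩ := key (e s)
  refine ⟨e.symm a, e.symm b, e.symm c, e.symm d, ?_, ?_, ?_, ?_, ?_⟩
  · rw [← map_mul, a2, map_one]
  · rw [← map_mul, b2, map_one]
  · rw [← map_mul, c2, map_one]
  · rw [← map_mul, d2, map_one]
  · rw [← map_mul, ← map_mul, ← map_mul, ← hab, e.symm_apply_apply]

end Cfsg.Agent.H854.Ore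
end
end

-- part: H854/Ore/J4Pow
section
prune_inst 0x4300041603200020000000000200020345800019000230001d9800840010773000002070046a039100000a2000000002002100040000000000000000000000020802a520082480004240009003084000000000000000000000000000000051000000000000
set_option linter.all false
open scoped Cfsg.Agent.FastGrp

/-!
# `J4`: products of two elements of order `43` or of two elements of order `23`; rows of S2453 and S2465 (helper854)

* `prod_J4` : every element is `x y` with `x ^ 43 = y ^ 43 = 1` or `x ^ 23 = y ^ 23 = 1`;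
* `sq_J4` : every element is `a ^ 2 b ^ 2`; `pw_J4` : every element is `a ^ m b ^ m`, `m` a prime power or a power of `6`.
-/

set_option autoImplicit false

open Cfsg
open Cfsg.Agent.H854.JM

namespace Cfsg.Agent.H854.Ore

open Cfsg.Agent.H860.Act Cfsg.Agent.H860.Orb Cfsg.Agent.H860.TwoElem
open Cfsg.Agent.J4.ClassesAbs (Hyp exists_mul_of_mem_sup)
open Cfsg.Agent.J4.Beta Cfsg.Agent.J4.M24Hom
open Cfsg.Agent.SporadicStructure.M24El Cfsg.Agent.SporadicA.GolayPerm
open Cfsg.Agent.H860.Two24 Cfsg.Agent.H860.Two24Data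
open Cfsg.Agent.J4.Rep112 (rho)
open Cfsg.Agent.H777.Ore

/-- elements of order `23` -/
def tQ1 : List ℕ := [983478296959358443554250846857397270, 435609769663561377304596957950597127, 526475193483151018049148542612743732, 928700450512634593027366072917433075, 435609769663561377304596957950597127, 683581010365472984858728795902035238, 482419119488086908251866214261851408]

/-- elements of order `23` -/
def tQ2 : List ℕ := [956302485175575353788796878166559809, 776838379337473446636627489629275397, 956709441910203461498593497208492130, 442244753731677887827186527001555247, 237669737550661069534520897246152972, 902341838122745061286414040863911439, 42369145575781168702407732474071312]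

/-- the choice of `x` -/
def tQX : List (List ℕ) := [[1946, 1735, 1939, 1947, 1635, 371, 1671, 1543, 1651, 883, 1907], [1197, 1902, 1758, 1683, 1208, 1870, 1294, 766, 1672, 1358, 1754], [1855, 1593, 678, 2010, 1854, 1470, 1570, 1882, 602, 1838, 858], [580, 833, 1604, 856, 1630, 1134, 1762, 1089, 173, 703, 976], [1197, 1902, 1758, 1683, 1208, 1870, 1294, 766, 1672, 1358, 1754], [1186, 817, 1207, 1306, 1354, 1338, 810, 1715, 823, 1203, 874], [1931, 1657, 1945, 1829, 1641, 1581, 2009, 345, 1837, 1497, 473]]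

/-- powers of a packed permutation -/
def ppow (P : ℕ) (n : ℕ) : ℕ := Nat.rec (motive := fun _ => ℕ) idP (fun _ ih => pcomp ih P) n

/-- check of the elements -/
def chkQ (a b m : ℕ) : Bool :=
  ok a && ok b && Nat.beq (ppow a 23) idP && Nat.beq (ppow b 23) idP && Nat.beq (pcomp a b) m

/-- check of the vectors -/
def chkQV (A X : List ℕ) : Bool :=
  (List.range 2048).all fun v => Nat.beq v (Nat.xor (lin X v) (lin A (lin X v)))

theorem chkQ_all : ∀ j < 7, chkQ (tQ1.getD j idP) (tQ2.getD j idP) (rp.getD j idP) = true := by decide +kernel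

private theorem lin_xorQ (A : List ℕ) : ∀ v w : ℕ, lin A (v ^^^ w) = lin A v ^^^ lin A w := by
  induction A with
  | nil => intro _ _; exact (Nat.xor_self 0).symm
  | cons a A ih =>
    intro v w
    rw [lin_cons, lin_cons, lin_cons, xor_div_two, ih, xor_mod_two]
    generalize lin A (v / 2) = x
    generalize lin A (w / 2) = y
    rcases Nat.mod_two_eq_zero_or_one v with h1 | h1 <;> rcases Nat.mod_two_eq_zero_or_one w with h2 | h2 <;>
      rw [h1, h2]
    · rfl
    · show a ^^^ (x ^^^ y) = x ^^^ (a ^^^ y)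
      rw [← Nat.xor_assoc, Nat.xor_comm a x, Nat.xor_assoc]
    · exact (Nat.xor_assoc a x y).symm
    · show x ^^^ y = (a ^^^ x) ^^^ (a ^^^ y)
      rw [Nat.xor_comm a x, Nat.xor_assoc, ← Nat.xor_assoc a a, Nat.xor_self, Nat.zero_xor]

/-- an additive map which fixes the basis vectors is the identity -/
private theorem id_of_basisQ (F : ℕ → ℕ) (hF : ∀ v w, F (v ^^^ w) = F v ^^^ F w) :
    ∀ n : ℕ, (∀ i < n, F (2 ^ i) = 2 ^ i) → ∀ v < 2 ^ n, F v = v := by
  intro n
  induction n with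
  | zero =>
    intro _ v hv
    have h0 : v = 0 := by omega
    have h1 := hF 0 0
    rw [Nat.xor_self, Nat.xor_self] at h1
    rw [h0, h1]
  | succ n ih =>
    intro h v hv
    have ih' := ih fun i hi => h i (Nat.lt_succ_of_lt hi)
    by_cases hc : v < 2 ^ n
    · exact ih' v hc
    · have h1 : v - 2 ^ n < 2 ^ n := by rw [pow_succ] at hv; omega
      have h2 : v = 2 ^ n ^^^ (v - 2 ^ n) := by
        have h3 := Nat.two_pow_add_eq_or_of_lt h1 1
        rw [mul_one, Nat.add_sub_cancel' (Nat.le_of_not_lt hc)] at h3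
        apply Nat.eq_of_testBit_eq
        intro j
        conv_lhs => rw [h3]
        rw [Nat.testBit_or, Nat.testBit_xor, Nat.testBit_two_pow]
        by_cases hj : n = j
        · rw [← hj, Nat.testBit_lt_two_pow h1]; simp
        · simp [hj]
      rw [h2, hF, h n (Nat.lt_succ_self n), ih' _ h1]

private theorem chkQV_of {A X : List ℕ}
    (h : (List.range 11).all (fun i => Nat.beq (2 ^ i) (Nat.xor (lin X (2 ^ i)) (lin A (lin X (2 ^ i))))) = true) :
    chkQV A X = true := by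
  refine List.all_eq_true.2 fun v hv => ?_
  have h1 := id_of_basisQ (fun v => lin X v ^^^ lin A (lin X v))
    (fun v w => by simp only [lin_xorQ]; ac_rfl) 11
    (fun i hi => (Nat.eq_of_beq_eq_true (List.all_eq_true.1 h i (List.mem_range.2 hi))).symm) v (List.mem_range.1 hv)
  exact (congrArg (Nat.beq v) h1).trans (Nat.beq_refl v)

theorem chkQV_all : ∀ j < 7, chkQV (AP (tQ1.getD j idP)) (tQX.getD j []) = true := by
  have h : ∀ j < 7, (List.range 11).all (fun i => Nat.beq (2 ^ i) (Nat.xor (lin (tQX.getD j []) (2 ^ i))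
      (lin (AP (tQ1.getD j idP)) (lin (tQX.getD j []) (2 ^ i))))) = true := by decide +kernel
  exact fun j hj => chkQV_of (h j hj)

theorem el_ppow {P : ℕ} (hP : ok P = true) (n : ℕ) : ok (ppow P n) = true ∧ el (ppow P n) = el P ^ n := by
  induction n with
  | zero => exact ⟨ok_idP, by rw [pow_zero]; exact el_idP⟩
  | succ n ih =>
    obtain ⟨h1, h2⟩ := ih
    refine ⟨ok_pcomp h1 hP, ?_⟩
    show el (pcomp (ppow P n) P) = _
    rw [el_pcomp h1 hP, h2, pow_succ]

section

variable {G : Type*} [Group G] {R : Subgroup G} {l : List G} {phi : M24 →* G}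

/-- the coset `2^11 m` consists of products of two elements of order `23` -/
theorem coset_prod (H : Hyp R l phi) {j : ℕ} (hj : j < 7) {v : ℕ} (hv : v < 2048) :
    ∃ a ∈ R, ∃ b ∈ R, a ^ 23 = 1 ∧ b ^ 23 = 1 ∧ J4.Beta.beta l v * phi (el (rp.getD j idP)) = a * b := by
  have hE := chkQ_all j hj
  unfold chkQ at hE
  simp only [Bool.and_eq_true] at hE
  obtain ⟨⟨⟨⟨hA, hB⟩, a2⟩, b2⟩, hM⟩ := hE
  have hV := List.all_eq_true.1 (chkQV_all j hj) v (List.mem_range.2 hv)
  have hV := Nat.eq_of_beq_eq_true hV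
  generalize tQ1.getD j idP = A at *
  generalize tQ2.getD j idP = B at *
  generalize rp.getD j idP = M at *
  have a2 := congrArg el (Nat.eq_of_beq_eq_true a2)
  have b2 := congrArg el (Nat.eq_of_beq_eq_true b2)
  have hM := congrArg el (Nat.eq_of_beq_eq_true hM)
  rw [(el_ppow hA 23).2, el_idP] at a2
  rw [(el_ppow hB 23).2, el_idP] at b2
  rw [el_pcomp hA hB] at hM
  have e1 := act_el H hA (lin (tQX.getD j []) v)
  generalize lin (tQX.getD j []) v = x at *
  have bx := beta_xor l H.sq H.comm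
  have binv : ∀ w, (J4.Beta.beta l w)⁻¹ = J4.Beta.beta l w := fun w => by
    rw [inv_eq_iff_mul_eq_one, ← bx, Nat.xor_self, beta_zero]
  have e : J4.Beta.beta l v = J4.Beta.beta l x * (phi (el A) * J4.Beta.beta l x * (phi (el A))⁻¹) := by
    rw [e1, ← bx]
    exact congrArg _ hV
  have hmx : J4.Beta.beta l x ∈ R := beta_mem R l H.mem x
  refine ⟨J4.Beta.beta l x * phi (el A) * (J4.Beta.beta l x)⁻¹,
    R.mul_mem (R.mul_mem hmx (H.le ⟨_, rfl⟩)) (R.inv_mem hmx), phi (el B), H.le ⟨_, rfl⟩, ?_, ?_, ?_⟩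
  · rw [conj_pow, ← map_pow, a2, map_one, mul_one, mul_inv_cancel]
  · rw [← map_pow, b2, map_one]
  · rw [e, ← hM, map_mul, binv x]; group

theorem two_prod_abs [Finite G] (H : Hyp R l phi)
    (hodd : ¬ 2 ∣ ((Subgroup.closure {q | q ∈ l} ⊔ phi.range).subgroupOf R).index)
    (u : G) (huR : u ∈ R) {n : ℕ} (hu : u ^ 2 ^ n = 1) : ∃ a ∈ R, ∃ b ∈ R, a ^ 23 = 1 ∧ b ^ 23 = 1 ∧ u = a * b := by
  obtain ⟨j, hj, v, hv, x, hx, h3⟩ := exists_coset H hodd u huR hu
  obtain ⟨a, ha, b, hb, a2, b2, h⟩ := coset_prod H hj hv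
  have key : ∀ y ∈ R, x⁻¹ * y * x⁻¹⁻¹ ∈ R := fun y hy => R.mul_mem (R.mul_mem (R.inv_mem hx) hy) (R.inv_mem (R.inv_mem hx))
  refine ⟨_, key a ha, _, key b hb, ?_, ?_, ?_⟩
  · rw [conj_pow, a2]; group
  · rw [conj_pow, b2]; group
  · have h4 : u = x⁻¹ * (a * b) * x := by rw [← h, ← h3]; group
    rw [h4]; group

end

/-- every 2-element of `Spor.J4` is a product of two elements of order `23` -/
theorem two_prod {g : Cfsg.Spor.J4} {n : ℕ} (hg : g ^ 2 ^ n = 1) :
    ∃ a b : Cfsg.Spor.J4, a ^ 23 = 1 ∧ b ^ 23 = 1 ∧ g = a * b := by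
  obtain ⟨_, ⟨a, rfl⟩, _, ⟨b, rfl⟩, a2, b2, h⟩ :=
    two_prod_abs J4.Classes.hyp odd_index (rho g) ⟨g, rfl⟩ (n := n) (by rw [← map_pow, hg, map_one])
  have inj := H858.VK.rho_injective
  refine ⟨a, b, inj ?_, inj ?_, inj ?_⟩
  · rw [map_pow, a2, map_one]
  · rw [map_pow, b2, map_one]
  · rw [h, map_mul]

section T1

open Cfsg.Agent.H653.Sieve Cfsg.Agent.H651.Two Cfsg.Agent.Characters.Core Cfsg.Agent.H511.Ore

universe u

/-- **T1 for products of two elements of the prime order `c.r`** -/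
theorem prd_of_data {G : Type u} [Group G] [Finite G] [IsSimpleGroup G] (hG : ¬ IsMulCommutative G) (N : ℕ)
    (hN : Nat.card G = N) (L : List (ℕ × ℕ)) (hL : (L.all fun pa => Nat.Prime pa.1) = true) (hLN : facProd L = N)
    (cd : List CD) (hcd : (cd.all (CD.ok N)) = true) (hx : ∀ d ∈ cd, d.Has G) {m D : ℕ} {ex : List ℕ} (hm : MinDeg G m)
    (hex : NoDeg G ex) (c : CD) (hc : c ∈ cd) (hk : c.k = 1) (h : allDiv (D * D) (tst c.r m ex cd) L 1 = true)
    (K : ℕ) (hK : K * s4 c.r c.e c.t < 8 * (D * D)) {g : G} (hg : Nat.card (Subgroup.centralizer ({g} : Set G)) ≤ K) :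
    ∃ x y : G, x ^ c.r = 1 ∧ y ^ c.r = 1 ∧ g = x * y := by
  have : Finite (IrrCharacter G) := finite_irr
  have := Fintype.ofFinite (IrrCharacter G)
  obtain ⟨x, hx1, hr, hcx, hS, hv⟩ := fourth_of_has hG hN (hx c hc) hk (List.all_eq_true.1 hcd c hc)
  have hD := degOff_of_check hG N hN L hL hLN cd hcd hx hm hex h
  have hD0 : 0 < D := by
    rcases Nat.eq_zero_or_pos D with h0 | h0
    · rw [h0] at hK; omega
    · exact h0
  obtain ⟨a, b, hab⟩ := exists_conj_of_sum (x := x) (y := x) (g := g) (d := D) (S := (s4 c.r c.e c.t : ℝ) / 8)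
    (le_trans (le_of_eq (Finset.sum_congr rfl fun χ _ => by ring))
      (show ∑ χ : IrrCharacter G, ‖(χ : G → ℂ) x‖ ^ 4 ≤ 1 + (s4 c.r c.e c.t : ℝ) / 8 by linarith))
    (fun χ h1 h2 _ => hD χ h1 fun h3 => h2 (hv χ h3)) (by
      have h1 : (Nat.card (Subgroup.centralizer ({g} : Set G)) : ℝ) ≤ K := by exact_mod_cast hg
      have h2 : ((K * s4 c.r c.e c.t : ℕ) : ℝ) < ((8 * (D * D) : ℕ) : ℝ) := by exact_mod_cast hK
      push_cast at h2
      have h3 : (Nat.card (Subgroup.centralizer ({g} : Set G)) : ℝ) * (s4 c.r c.e c.t : ℝ) ≤ K * (s4 c.r c.e c.t : ℝ) :=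
        mul_le_mul_of_nonneg_right h1 (Nat.cast_nonneg _)
      nlinarith) hD0
  exact ⟨_, _, by rw [conj_pow, ← hx1, pow_orderOf_eq_one]; group, by rw [conj_pow, ← hx1, pow_orderOf_eq_one]; group,
    hab.symm⟩

/-- a column of `J4` -/
theorem prdJ (c : CD) (hc : c ∈ cdJ) (hk : c.k = 1) (D : ℕ) (h : allDiv (D * D) (tst c.r 2 [] cdJ) LJ 1 = true) (K : ℕ)
    (hK : K * s4 c.r c.e c.t < 8 * (D * D)) {g : Cfsg.Spor.J4}
    (hg : Nat.card (Subgroup.centralizer ({g} : Set Cfsg.Spor.J4)) ≤ K) :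
    ∃ x y : Cfsg.Spor.J4, x ^ c.r = 1 ∧ y ^ c.r = 1 ∧ g = x * y := by
  have := simple_J
  have hfin : Finite Cfsg.Spor.J4 := H858.FixJ4.facts.1
  exact prd_of_data noncomm_J 86775571046077562880 card'' LJ hL hLN cdJ hcd hasJ (m := 2) (D := D) (ex := [])
    (fun χ h => H511.Ore.two_le_charDegree noncomm_J χ h) (fun χ => List.not_mem_nil) c hc hk h K hK hg

theorem prod_one (g : Cfsg.Spor.J4) : (∃ x y : Cfsg.Spor.J4, x ^ 43 = 1 ∧ y ^ 43 = 1 ∧ g = x * y) ∨
    ∃ n, orderOf g = 2 ^ n := by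
  by_cases hg : ∃ p : ℕ, p.Prime ∧ p ≠ 2 ∧ p ∣ orderOf g
  · obtain ⟨p, hp, h2, hd⟩ := hg
    exact Or.inl (prdJ ⟨43, 1, 14, 3, [(0, 0), (1, 3), (14, -1), (29, 1), (42, -3)], 3, true⟩ (by simp [cdJ]) rfl
      100000 hdiv 2661120 (by norm_num [H511.Ore.s4]) (cent_le hp h2 hd))
  · push Not at hg
    exact Or.inr (two_pow_of g hg)

theorem hdiv37 : allDiv (1000 * 1000) (tst 37 2 [] cdJ) LJ 1 = true := by decide +kernel

/-- an element of order divisible by `p`, `p = 23` or `43`, is a product of two elements of order `37` -/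
theorem prod_37 {p : ℕ} (hp : p = 23 ∨ p = 43) {g : Cfsg.Spor.J4} (hd : p ∣ orderOf g) :
    ∃ x y : Cfsg.Spor.J4, x ^ 37 = 1 ∧ y ^ 37 = 1 ∧ g = x * y := by
  have hfin : Finite Cfsg.Spor.J4 := H858.FixJ4.facts.1
  have hc : Nat.card (Subgroup.centralizer ({g} : Set Cfsg.Spor.J4)) ≤ 43 := by
    have hpos : 0 < orderOf g := orderOf_pos g
    obtain ⟨k, hk⟩ := id hd
    have hk0 : k ≠ 0 := by rintro rfl; omega
    have hx : orderOf (g ^ k) = p := by
      rw [orderOf_pow' g hk0, hk, Nat.gcd_eq_right (Dvd.intro_left p rfl), Nat.mul_div_cancel _ (by omega)]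
    have hle : Subgroup.centralizer ({g} : Set Cfsg.Spor.J4) ≤ Subgroup.centralizer ({g ^ k} : Set Cfsg.Spor.J4) := by
      intro c hc
      rw [Subgroup.mem_centralizer_singleton_iff] at hc ⊢
      exact ((show Commute c g from hc).pow_right k)
    refine (Subgroup.card_le_of_le hle).trans ?_
    have hQ : Nat.card (Subgroup.zpowers (g ^ k)) = p := by rw [Nat.card_zpowers, hx]
    rcases hp with rfl | rfl
    · rw [← cent_zpowers, lc.cp 23 (by simp) _ hQ]; norm_num
    · rw [← cent_zpowers, lc.cp 43 (by simp) _ hQ]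
  exact prdJ ⟨37, 1, 12, 3, [(0, 0), (1, 3), (12, -1), (25, 1), (36, -3)], 3, true⟩ (by simp [cdJ]) rfl
    1000 hdiv37 43 (by norm_num [H511.Ore.s4]) hc

end T1

theorem prod_J (g : Cfsg.Spor.J4) : ∃ x y : Cfsg.Spor.J4, g = x * y ∧
    ((x ^ 43 = 1 ∧ y ^ 43 = 1) ∨ (x ^ 23 = 1 ∧ y ^ 23 = 1)) := by
  rcases prod_one g with ⟨x, y, hx, hy, h⟩ | ⟨n, hn⟩
  · exact ⟨x, y, h, Or.inl ⟨hx, hy⟩⟩
  · obtain ⟨x, y, hx, hy, h⟩ := two_prod (n := n) (by rw [← hn]; exact pow_orderOf_eq_one g)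
    exact ⟨x, y, h, Or.inr ⟨hx, hy⟩⟩

/-- an element of order prime to `m` is an `m`-th power -/
theorem exists_root {G : Type*} [Group G] {x : G} {q m : ℕ} (hx : x ^ q = 1) (h : Nat.Coprime m q) : ∃ a : G, x = a ^ m := by
  have h1 : (Nat.gcdA m q * m : ℤ) + Nat.gcdB m q * q = 1 := by
    have := Nat.gcd_eq_gcd_ab m q
    rw [h] at this
    push_cast at this
    linarith
  refine ⟨x ^ (Nat.gcdA m q), ?_⟩
  calc x = x ^ ((Nat.gcdA m q * m : ℤ) + Nat.gcdB m q * q) := by rw [h1, zpow_one]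
    _ = (x ^ (Nat.gcdA m q)) ^ m * (x ^ q) ^ (Nat.gcdB m q) := by
        rw [zpow_add, zpow_mul, mul_comm (Nat.gcdB m q), zpow_mul, zpow_natCast, zpow_natCast]
    _ = _ := by rw [hx, one_zpow, mul_one]

theorem pw_J (m : ℕ) (hm : IsPrimePow m ∨ ∃ k : ℕ, m = 6 ^ k) (g : Cfsg.Spor.J4) : ∃ a b, g = a ^ m * b ^ m := by
  have hfin : Finite Cfsg.Spor.J4 := H858.FixJ4.facts.1
  have fin : ∀ {q : ℕ} {x y : Cfsg.Spor.J4}, g = x * y → x ^ q = 1 → y ^ q = 1 → Nat.Coprime m q →
      ∃ a b, g = a ^ m * b ^ m := by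
    intro q x y h hx hy hq
    obtain ⟨a, ha⟩ := exists_root hx hq
    obtain ⟨b, hb⟩ := exists_root hy hq
    exact ⟨a, b, by rw [h, ha, hb]⟩
  by_cases h23 : Nat.Coprime m (23 * 43)
  · obtain ⟨x, y, h, hxy⟩ := prod_J g
    rcases hxy with ⟨hx, hy⟩ | ⟨hx, hy⟩
    · exact fin h hx hy (Nat.Coprime.coprime_mul_left_right h23)
    · exact fin h hx hy (Nat.Coprime.coprime_mul_right_right h23)
  · have hp : ∃ p, (p = 23 ∨ p = 43) ∧ ∃ k, m = p ^ k := by
      rcases hm with hm | ⟨k, rfl⟩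
      · obtain ⟨p, k, hp, hk, rfl⟩ := hm
        rw [← Nat.prime_iff] at hp
        refine ⟨p, ?_, k, rfl⟩
        by_contra hne
        push Not at hne
        apply h23
        refine Nat.Coprime.pow_left _ (Nat.Coprime.mul_right ?_ ?_)
        · exact (Nat.coprime_primes hp (by norm_num)).2 hne.1
        · exact (Nat.coprime_primes hp (by norm_num)).2 hne.2
      · exfalso
        exact h23 (Nat.Coprime.pow_left _ (by norm_num))
    obtain ⟨p, hp, k, rfl⟩ := hp
    have hpp : p.Prime := by rcases hp with rfl | rfl <;> norm_num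
    by_cases hd : p ∣ orderOf g
    · obtain ⟨x, y, hx, hy, h⟩ := prod_37 hp hd
      exact fin h hx hy (Nat.Coprime.pow_left _ (by rcases hp with rfl | rfl <;> norm_num))
    · obtain ⟨a, ha⟩ := exists_root (m := p ^ k) (pow_orderOf_eq_one g)
        (Nat.Coprime.pow_left _ ((Nat.Prime.coprime_iff_not_dvd hpp).2 hd))
      exact ⟨a, 1, by rw [one_pow, mul_one]; exact ha⟩

/-- **row `J4` of S2465** -/
theorem pw_J4 {S : Type*} [Group S] (h : Spor.IsoJ4 S) (m : ℕ) (hm : IsPrimePow m ∨ ∃ k : ℕ, m = 6 ^ k) (g : S) :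
    ∃ a b : S, g = a ^ m * b ^ m := by
  obtain ⟨e⟩ := h
  obtain ⟨a, b, hab⟩ := pw_J m hm (e g)
  exact ⟨e.symm a, e.symm b, by rw [← map_pow, ← map_pow, ← map_mul, ← hab, e.symm_apply_apply]⟩

/-- **row `J4` of S2453** -/
theorem sq_J4 {S : Type*} [Group S] (h : Spor.IsoJ4 S) (g : S) : ∃ a b : S, g = a ^ 2 * b ^ 2 :=
  pw_J4 h 2 (Or.inl Nat.prime_two.isPrimePow) g

end Cfsg.Agent.H854.Ore
end
end
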